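import Cfsg.Agent.H0.SS
set_option maxRecDepth 100000
set_option Elab.async false
set_option linter.unusedSectionVars false
namespace H0.MW2
open H0 BN 
noncomputable def n0 : Net := (Net.cons (nat_lit 32) (nat_lit 0x8f42851e) (Net.cons (nat_lit 16) (nat_lit 0xadc90000246e) (Net.cons (nat_lit 8) (nat_lit 0xaa000400340034) (Net.cons (nat_lit 4) (nat_lit 0x10d010a0401070c) (Net.cons (nat_lit 2) (nat_lit 0x2121133210233102) (Net.cons (nat_lit 1) (nat_lit 0x1104041411444411) (Net.cons (nat_lit 2) (nat_lit 0x2200020022020020) (Net.cons (nat_lit 4) (nat_lit 0x20e040800020000) (Net.cons (nat_lit 8) (nat_lit 0x98007c000400a4) (Net.cons (nat_lit 16) (nat_lit 0x192c0000c440) (Net.cons (nat_lit 32) (nat_lit 0x2db51aa4) Net.nil)))))))))))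
noncomputable def n1 : Net := (Net.cons (nat_lit 32) (nat_lit 0x55741d83) (Net.cons (nat_lit 16) (nat_lit 0xc30f0000ff30) (Net.cons (nat_lit 8) (nat_lit 0x2c007700740080) (Net.cons (nat_lit 4) (nat_lit 0x70a0005040d0f00) (Net.cons (nat_lit 2) (nat_lit 0x2132220021010113) (Net.cons (nat_lit 1) (nat_lit 0x1540104150414440) (Net.cons (nat_lit 2) (nat_lit 0x2020200200000200) (Net.cons (nat_lit 4) (nat_lit 0xc0a0804060000) (Net.cons (nat_lit 8) (nat_lit 0x1800bc00320026) (Net.cons (nat_lit 16) (nat_lit 0x88ce00001506) (Net.cons (nat_lit 32) (nat_lit 0x336bc242) Net.nil)))))))))))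
noncomputable def n2 : Net := (Net.cons (nat_lit 32) (nat_lit 0x20000) (Net.cons (nat_lit 16) (nat_lit 0x19e400008c84) (Net.cons (nat_lit 8) (nat_lit 0xc70077008a00de) (Net.cons (nat_lit 4) (nat_lit 0x50601020702020c) (Net.cons (nat_lit 2) (nat_lit 0x201323312222320) (Net.cons (nat_lit 1) (nat_lit 0x4105441404044540) (Net.cons (nat_lit 2) (nat_lit 0x202000002000) (Net.cons (nat_lit 4) (nat_lit 0xe08080a0c080808) (Net.cons (nat_lit 8) (nat_lit 0xe00006008000aa) (Net.cons (nat_lit 16) (nat_lit 0x93a000008ed4) (Net.cons (nat_lit 32) (nat_lit 0x40000080) Net.nil)))))))))))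
noncomputable def n3 : Net := (Net.cons (nat_lit 32) (nat_lit 0x1a1812a4) (Net.cons (nat_lit 16) (nat_lit 0x1ee00000094) (Net.cons (nat_lit 8) (nat_lit 0x8e00a5003b0068) (Net.cons (nat_lit 4) (nat_lit 0xf000f06040b0904) (Net.cons (nat_lit 2) (nat_lit 0x3201210111310100) (Net.cons (nat_lit 1) (nat_lit 0x4141405404544044) (Net.cons (nat_lit 2) (nat_lit 0x2200200002022002) (Net.cons (nat_lit 4) (nat_lit 0x40002080c060208) (Net.cons (nat_lit 8) (nat_lit 0xa800f400280058) (Net.cons (nat_lit 16) (nat_lit 0x78620000a884) (Net.cons (nat_lit 32) (nat_lit 0x61593c04) Net.nil)))))))))))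
noncomputable def n4 : Net := (Net.cons (nat_lit 32) (nat_lit 0xc4a5a000) (Net.cons (nat_lit 16) (nat_lit 0x40a000004000) (Net.cons (nat_lit 8) (nat_lit 0xb400f700900018) (Net.cons (nat_lit 4) (nat_lit 0x80c0505040a000c) (Net.cons (nat_lit 2) (nat_lit 0x22313102230002) (Net.cons (nat_lit 1) (nat_lit 0x4004000040054000) (Net.cons (nat_lit 2) (nat_lit 0x2000000000000) (Net.cons (nat_lit 4) (nat_lit 0x80c0000040a0008) (Net.cons (nat_lit 8) (nat_lit 0x20000000800000) (Net.cons (nat_lit 16) (nat_lit 0x40a000004000) (Net.cons (nat_lit 32) (nat_lit 0xc4a5a000) Net.nil)))))))))))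
noncomputable def n5 : Net := (Net.cons (nat_lit 32) (nat_lit 0x8f4e4020) (Net.cons (nat_lit 16) (nat_lit 0xc28000006420) (Net.cons (nat_lit 8) (nat_lit 0xb10082009f0052) (Net.cons (nat_lit 4) (nat_lit 0xb04060806070704) (Net.cons (nat_lit 2) (nat_lit 0x3322133021210320) (Net.cons (nat_lit 1) (nat_lit 0x4150504411045150) (Net.cons (nat_lit 2) (nat_lit 0x2000002000000200) (Net.cons (nat_lit 4) (nat_lit 0xc0804060c0e0608) (Net.cons (nat_lit 8) (nat_lit 0x1400ec00e20054) (Net.cons (nat_lit 16) (nat_lit 0xc1040000a004) (Net.cons (nat_lit 32) (nat_lit 0xce9b2400) Net.nil)))))))))))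
noncomputable def n6 : Net := (Net.cons (nat_lit 16) (nat_lit 0xf0000000e000) (Net.cons (nat_lit 8) (nat_lit 0x80000c00e00080) (Net.cons (nat_lit 4) (nat_lit 0x8000f000f0e00) (Net.cons (nat_lit 2) (nat_lit 0x303300022220220) (Net.cons (nat_lit 1) (nat_lit 0x1550511111115140) (Net.cons (nat_lit 2) (nat_lit 0x22220220) (Net.cons (nat_lit 4) (nat_lit 0x8000000000e00) (Net.cons (nat_lit 8) (nat_lit 0x80000c00e00080) (Net.cons (nat_lit 16) (nat_lit 0xf0000000e000) Net.nil)))))))))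
noncomputable def n7 : Net := (Net.cons (nat_lit 32) (nat_lit 0xfa348000) (Net.cons (nat_lit 16) (nat_lit 0xc0000000a000) (Net.cons (nat_lit 8) (nat_lit 0xa000c000f00040) (Net.cons (nat_lit 4) (nat_lit 0xa04030c0d010700) (Net.cons (nat_lit 2) (nat_lit 0x2120000002131120) (Net.cons (nat_lit 1) (nat_lit 0x1015111111411400) (Net.cons (nat_lit 2) (nat_lit 0x2020000020022200) (Net.cons (nat_lit 4) (nat_lit 0x8040000020c0800) (Net.cons (nat_lit 8) (nat_lit 0xa000c000f00040) (Net.cons (nat_lit 16) (nat_lit 0xc0000000a000) (Net.cons (nat_lit 32) (nat_lit 0xfa348000) Net.nil)))))))))))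
noncomputable def n8 : Net := (Net.cons (nat_lit 32) (nat_lit 0x90800000) (Net.cons (nat_lit 16) (nat_lit 0x80000000f080) (Net.cons (nat_lit 8) (nat_lit 0x8000c000f40060) (Net.cons (nat_lit 4) (nat_lit 0xf050a04040402) (Net.cons (nat_lit 2) (nat_lit 0x3022330020133000) (Net.cons (nat_lit 1) (nat_lit 0x5044141450505514) (Net.cons (nat_lit 2) (nat_lit 0x22000000000000) (Net.cons (nat_lit 4) (nat_lit 0xa0a04040402) (Net.cons (nat_lit 8) (nat_lit 0x8000c000400060) (Net.cons (nat_lit 16) (nat_lit 0x80000000f080) (Net.cons (nat_lit 32) (nat_lit 0x90800000) Net.nil)))))))))))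
noncomputable def n9 : Net := (Net.cons (nat_lit 32) (nat_lit 0xbe880ec0) (Net.cons (nat_lit 16) (nat_lit 0x77720000f640) (Net.cons (nat_lit 8) (nat_lit 0xc000e100e000b0) (Net.cons (nat_lit 4) (nat_lit 0x6030501050a090c) (Net.cons (nat_lit 2) (nat_lit 0x1323111313113332) (Net.cons (nat_lit 1) (nat_lit 0x1010114111115514) (Net.cons (nat_lit 2) (nat_lit 0x2000220000220000) (Net.cons (nat_lit 4) (nat_lit 0x802000c00000002) (Net.cons (nat_lit 8) (nat_lit 0xe000b800c000e8) (Net.cons (nat_lit 16) (nat_lit 0x7ddc0000ee00) (Net.cons (nat_lit 32) (nat_lit 0xe7a03b20) Net.nil)))))))))))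
noncomputable def n10 : Net := (Net.cons (nat_lit 32) (nat_lit 0xc0000000) (Net.cons (nat_lit 16) (nat_lit 0xc00100002000) (Net.cons (nat_lit 8) (nat_lit 0x8000c300210000) (Net.cons (nat_lit 4) (nat_lit 0x80f0f0303000e) (Net.cons (nat_lit 2) (nat_lit 0x22333300000230) (Net.cons (nat_lit 1) (nat_lit 0x541555515554454) (Net.cons (nat_lit 2) (nat_lit 0x22000000000200) (Net.cons (nat_lit 4) (nat_lit 0x800000000000e) (Net.cons (nat_lit 8) (nat_lit 0x80000000000000) (Net.cons (nat_lit 16) (nat_lit 0x400000002000) (Net.cons (nat_lit 32) (nat_lit 0xc0000000) Net.nil)))))))))))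
noncomputable def n11 : Net := (Net.cons (nat_lit 16) (nat_lit 0xe000) (Net.cons (nat_lit 8) (nat_lit 0x810000) (Net.cons (nat_lit 4) (nat_lit 0x8000009090e00) (Net.cons (nat_lit 2) (nat_lit 0x30000033333000) (Net.cons (nat_lit 1) (nat_lit 0x5550155555555400) (Net.cons (nat_lit 4) (nat_lit 0x8000000000e00) (Net.cons (nat_lit 16) (nat_lit 0xe000) Net.nil)))))))
noncomputable def nl : List Net := [n0, n1, n2, n3, n4, n5, n6, n7, n8, n9, n10, n11]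
theorem nl_ok : allL (Net.ok (nat_lit 64)) nl = true := by decide +kernel
noncomputable def R : Rep := mkRep (nat_lit 6) (nat_lit 64) nl (by decide +kernel) nl_ok
def defs : List (List ℕ) := []
theorem R_ge : ∀ x, 12 + defs.length ≤ x → R.p x = 1 := fun _ hx => mkRep_ge hx
def ch : List Model.Lev := [(0, [[0], [1]], 64), (29, [[2], [3]], 35), (46, [[4], [5]], 18), (5, [[6], [7], [8], [9]], 8), (13, [[10], [11]], 4)]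
def T4 : List (List ℕ) := [[10], [11], [11, 10]]
def tb4_11 : List (ℕ × List ℕ) := [(1, []), (2, []), (4, []), (0, [])]
def tb4_10 : List (ℕ × List ℕ) := [(0, []), (4, []), (2, []), (1, [])]
def T3 : List (List ℕ) := [[6], [7], [8], [7, 6], [8, 6], [8, 7], [8, 7, 6]]
def tb3_11 : List (ℕ × List ℕ) := [(8, [1]), (0, [1]), (1, [1]), (6, []), (3, [1]), (5, []), (4, []), (2, [])]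
def tb3_10 : List (ℕ × List ℕ) := [(8, [0]), (1, [1, 0]), (0, [1, 0]), (6, [1, 0]), (3, [0]), (4, [0]), (5, [0]), (2, [1, 0])]
def tb3_9 : List (ℕ × List ℕ) := [(1, [0]), (8, [1, 0]), (3, [1, 0]), (5, [0]), (0, [0]), (2, [1, 0]), (6, [1, 0]), (4, [0])]
def tb3_8 : List (ℕ × List ℕ) := [(2, []), (4, []), (5, []), (8, []), (6, []), (0, []), (1, []), (3, [])]
def tb3_7 : List (ℕ × List ℕ) := [(1, []), (3, []), (8, []), (4, [1]), (0, []), (2, [1]), (6, [1]), (5, [1])]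
def tb3_6 : List (ℕ × List ℕ) := [(0, []), (8, []), (3, []), (4, []), (1, []), (2, []), (6, []), (5, [])]
def T2 : List (List ℕ) := [[4], [5], [5, 4], [4, 5], [5, 5], [4, 5, 4], [5, 4, 5], [5, 5, 5], [5, 4, 5, 4], [5, 5, 4, 5], [4, 5, 4, 5, 4], [5, 5, 4, 5, 4], [4, 5, 5, 4, 5], [5, 4, 5, 4, 5, 4], [4, 5, 5, 4, 5, 4], [5, 4, 5, 5, 4, 5], [5, 4, 5, 5, 4, 5, 4]]
def tb2_11 : List (ℕ × List ℕ) := [(18, [5]), (16, [1, 0]), (10, [2, 1, 5, 4]), (2, [1, 0]), (8, [2, 0, 5, 4]), (13, [2, 0, 5]), (9, [1, 5, 4]), (6, [5]), (14, [1]), (3, [2, 1, 4]), (5, [0, 4]), (1, [2, 1, 5, 4]), (11, [1, 0]), (12, [1, 0]), (4, [2, 1]), (7, [1]), (15, [5]), (0, [1, 0])]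
def tb2_10 : List (ℕ × List ℕ) := [(18, [4]), (16, [1, 0, 5, 4]), (1, [5, 4]), (2, [5, 4]), (3, [1, 0, 5, 4]), (13, [2, 1]), (9, [0]), (11, [2, 1]), (7, [1, 0, 5]), (8, [1, 0, 5, 4]), (5, [0]), (10, [1, 0, 4]), (6, [2, 0, 5]), (12, [1, 0, 4]), (4, [2, 0, 5]), (14, [1, 0, 5]), (15, [4]), (0, [1, 0, 5, 4])]
def tb2_9 : List (ℕ × List ℕ) := [(18, [1, 4]), (4, []), (9, []), (11, []), (7, []), (0, [1, 0, 4]), (1, [1, 4]), (2, [2, 0, 4]), (3, [4]), (14, [2, 1, 0, 5, 4]), (10, [2, 1, 4]), (5, [2, 1, 0, 5]), (12, [0, 5]), (6, [2, 1, 0, 4]), (16, [2, 1, 4]), (8, [2, 1, 0, 5]), (15, [0, 4]), (13, [2, 1, 5])]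
def tb2_8 : List (ℕ × List ℕ) := [(18, [2]), (0, [2]), (11, [2, 5]), (5, [2, 1, 5, 4]), (14, [2, 5]), (4, [2]), (2, [2, 1, 5, 4]), (10, [2]), (8, [1, 0]), (7, [1, 0]), (12, [2, 1, 5]), (6, [2]), (1, [2, 1, 0]), (9, [2, 1, 5]), (13, [2, 1, 0, 4]), (3, [2, 1, 0]), (15, [2, 5, 4]), (16, [2, 5, 4])]
def tb2_7 : List (ℕ × List ℕ) := [(18, [1]), (13, [2, 0, 4]), (9, [5, 4]), (11, [5, 4]), (7, [1, 0, 5, 4]), (16, [1, 0, 5, 4]), (10, [2, 5, 4]), (12, [2]), (3, [1, 0, 5, 4]), (14, [2]), (1, [5, 4]), (5, [2, 5, 4]), (2, [5, 4]), (6, [2]), (0, [2, 0, 4]), (8, [2]), (15, [0]), (4, [1, 0, 5, 4])]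
def tb2_6 : List (ℕ × List ℕ) := [(18, [0]), (4, [1, 0, 5]), (9, [4]), (6, [2, 1, 5]), (14, [0, 5]), (0, [1, 0, 5]), (10, [2, 4]), (2, [2, 1, 5]), (8, [2, 1, 4]), (7, [2, 0, 5, 4]), (1, [4]), (5, [2, 1, 0, 5, 4]), (12, [1, 4]), (11, [0, 5, 4]), (16, [2, 0]), (3, [0, 5]), (15, [1]), (13, [2, 0])]
def tb2_5 : List (ℕ × List ℕ) := [(1, []), (2, []), (4, []), (18, [1, 4]), (6, []), (7, []), (8, []), (9, []), (0, [0, 5, 4]), (11, []), (3, [2, 1, 0, 4]), (13, []), (5, [2, 1, 0, 5]), (15, []), (14, [2, 1, 0, 5, 4]), (16, []), (10, [2, 1, 4]), (12, [0, 5])]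
def tb2_4 : List (ℕ × List ℕ) := [(0, []), (18, []), (3, []), (5, []), (1, []), (4, [0]), (2, []), (7, [2, 5]), (6, [2, 1, 0]), (10, []), (12, []), (8, []), (14, []), (9, []), (13, [1]), (11, []), (16, [5, 4]), (15, [5, 4])]
def T1 : List (List ℕ) := [[2], [3], [2, 2], [3, 2], [2, 3], [3, 3], [3, 2, 2], [3, 3, 2], [2, 2, 3], [3, 2, 3], [2, 3, 3], [3, 3, 3], [2, 3, 2, 2], [3, 3, 2, 2], [3, 2, 2, 3], [2, 3, 2, 3], [3, 2, 3, 3], [2, 3, 3, 3], [3, 3, 3, 3], [2, 2, 3, 2, 2], [3, 3, 3, 2, 2], [2, 3, 2, 2, 3], [3, 3, 2, 2, 3], [2, 2, 3, 2, 3], [2, 3, 2, 3, 3], [3, 3, 2, 3, 3], [3, 3, 3, 3, 3], [3, 3, 3, 3, 2, 2], [3, 2, 3, 2, 2, 3], [3, 2, 3, 2, 3, 3], [3, 3, 3, 2, 3, 3], [3, 3, 2, 3, 2, 3, 3], [2, 3, 3, 2, 3, 2, 3, 3], [3, 3, 3, 2, 3, 2, 3, 3]]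
def tb1_11 : List (ℕ × List ℕ) := [(35, [7]), (0, [0, 1, 4, 7]), (20, [0, 1, 4, 3, 7, 6]), (12, [1, 2, 7, 6]), (16, [0, 1, 4, 7, 6]), (4, [3]), (28, [0, 1, 0, 1, 0, 3, 7, 6]), (25, [1, 0, 6]), (33, [0, 4, 7, 6]), (31, [1, 1, 0, 1, 3, 2, 6]), (29, [1, 0, 1, 0, 3, 2, 7, 6]), (26, [0, 1, 0, 1, 0, 4, 3, 2, 6]), (23, [1, 1, 0, 1, 0, 4, 3, 2, 7, 6]), (2, [1, 1, 0, 1, 0, 2, 7, 6]), (14, [4]), (13, [4]), (15, [3, 7]), (3, [0, 1, 4, 7, 6]), (18, [1, 1, 4, 2]), (17, [1, 1, 4, 3, 6]), (19, [1, 4, 2, 7]), (1, [1, 1, 1, 4, 3, 2, 6]), (30, [1, 0, 1, 4, 6]), (22, [1, 0, 1, 1, 0, 1, 0, 3, 2, 7]), (11, [0, 1, 1, 0, 1, 4]), (24, [1, 0, 1, 0, 1, 0, 4, 7, 6]), (6, [1, 1, 0, 1, 7, 6]), (10, [1, 1, 0, 1, 0, 3]), (32, [1, 0, 1, 1, 0, 1, 0, 6]), (5, [1, 1, 0, 1, 4,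 3, 6]), (9, [0, 1, 1, 0, 1, 0, 4, 3]), (21, [1, 2, 7]), (8, [0, 1, 1, 0, 1, 2, 7, 6]), (27, [0, 3, 2]), (7, [0, 4, 7, 6])]
def tb1_10 : List (ℕ × List ℕ) := [(35, [6]), (0, [0, 1, 3]), (9, [1, 0, 1, 1, 0, 1, 4, 3, 2, 7]), (2, [1, 0, 1, 1, 0, 1]), (10, [1, 0]), (4, [4, 2, 6]), (13, [1, 1, 0, 1, 4, 3, 2]), (6, [1, 1, 1]), (7, [1, 1, 4, 3, 7]), (31, [1, 1, 0, 1, 7]), (1, [1, 0, 1, 1, 0, 1, 4, 3, 2, 6]), (3, [0, 1, 0, 2, 7, 6]), (23, [1, 1, 0, 1, 3, 2, 7, 6]), (12, [1, 0, 1, 1, 0, 1, 7, 6]), (5, [0, 1, 0, 4, 3, 6]), (28, [1, 0, 1, 1, 0, 1, 4, 3]), (15, [4, 3, 7]), (26, [0, 1, 1, 0, 1, 4, 3]), (32, [4, 3, 2, 7]), (27, [1, 0, 1, 0, 1, 0, 4, 3, 6]), (19, [0, 1, 1, 0, 1, 0, 3, 7]), (29, [1, 1, 1, 6]), (30, [0, 7]), (24, [4, 2, 7, 6]), (11, [0, 1, 1,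 0, 1, 3, 7, 6]), (22, [4, 3, 6]), (25, [4, 3, 2, 6]), (16, [1, 0, 4, 3, 2]), (18, [1, 0, 1, 1, 0, 1, 0, 2, 7, 6]), (14, [1, 0, 1, 1, 0, 1, 4, 2, 7, 6]), (20, [1, 1, 1, 3, 2, 7]), (21, [1, 0, 1, 1, 0, 1, 0, 3, 2]), (8, [1, 0, 7]), (17, [4, 3, 2, 7]), (33, [4, 3, 7])]
def tb1_9 : List (ℕ × List ℕ) := [(35, [3, 6]), (24, [1, 1, 0, 1, 0, 4, 7]), (13, [1, 1, 1, 7, 6]), (7, [0, 1, 1, 0, 1, 3, 2, 6]), (10, [1, 0, 1, 0, 4, 7, 6]), (4, [4, 3, 2, 7, 6]), (9, [1, 0, 4, 3, 2]), (11, [0, 1, 0, 1, 0, 4, 3, 6]), (2, [0, 1, 1, 0, 1, 0, 4, 7, 6]), (30, [1, 0, 1, 0, 1, 0, 4]), (20, [1, 1, 0, 1, 6]), (27, [0, 1, 0, 1, 0, 3, 2]), (25, [0, 1, 1, 0, 1, 4, 7]), (33, [1, 0, 1, 4, 3, 6]), (28, [1, 4, 3, 2, 6]), (5, [1, 0, 1, 1, 0, 1, 4, 7]), (15, [4, 2, 7]), (26, [1,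 4, 3, 2, 6]), (16, [1, 0, 1, 2]), (3, [1, 0, 1, 1, 0, 1, 4, 3, 2, 7]), (22, [1, 1, 0, 1, 0, 4, 2]), (14, [1, 0, 1, 1, 0, 1, 3, 2, 7]), (31, [1, 0, 1, 4]), (0, [1, 0, 4, 7, 6]), (6, [1, 2]), (19, [1, 0, 1, 3, 7, 6]), (23, [1, 4, 2]), (32, [1, 2, 7]), (18, [1, 0, 1]), (29, [1, 1, 1, 4, 3]), (1, [0, 1, 1, 0, 1, 3, 7, 6]), (8, [0, 1, 1, 0, 1, 3, 7]), (21, [0, 7]), (17, [1, 1, 0, 1, 6]), (12, [0, 1, 0, 4, 3])]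
def tb1_8 : List (ℕ × List ℕ) := [(35, [4]), (11, [1, 0, 1, 0, 1, 0, 3, 7, 6]), (28, [1, 0, 1, 0, 2, 6]), (33, [0, 1, 0, 1, 0, 4, 2, 7, 6]), (26, [1, 1, 0, 1, 0, 2, 6]), (4, [7, 6]), (5, [1, 1, 4, 2, 7, 6]), (22, [1, 0, 1, 0, 2, 6]), (12, [0, 1, 4, 3, 2, 6]), (8, [0, 1, 1, 0, 1, 0, 3, 7]), (9, [1, 1, 4, 2, 7, 6]), (32, [0, 1, 2, 7, 6]), (0, [0, 4, 3]), (7, [0, 1, 4, 3, 2]), (29, [1, 0, 1, 1, 0, 1, 4, 6]), (14, [1, 1, 4, 2, 7, 6]), (15, [4, 7, 6]), (18, [1, 1, 1, 4, 3, 7, 6]), (27, [1, 0, 1, 0, 1, 0, 4, 2, 7, 6]), (16, [1, 1, 1, 4, 2]), (23, [1, 1, 0, 1, 7, 6]), (20, [1, 0, 1, 0, 1, 0, 3, 2, 6]), (21, [3, 2, 7, 6]), (6, [0, 1, 4]), (19, [1, 0, 6]), (25, [4, 7]), (24, [4, 3, 2]), (3, [0, 1, 0, 1, 0, 4, 7]), (17, [1, 0, 1, 1, 0, 1, 0, 2]), (1,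 [0, 1, 4]), (13, [1, 0, 1, 1, 0, 1, 4, 3, 2]), (30, [1, 0, 1, 0, 4, 7]), (31, [1, 0, 1, 1, 0, 1, 6]), (10, [0, 1, 2, 7]), (2, [0, 1, 1, 0, 1, 3, 2, 7, 6])]
def tb1_7 : List (ℕ × List ℕ) := [(35, [3]), (24, [0, 1, 0, 1, 0, 4, 3]), (20, [0, 1, 0, 4, 2, 7]), (7, [1, 0, 3, 7]), (27, [1, 1, 4, 3, 2, 6]), (4, [3, 7]), (28, [2, 7]), (11, [0, 2]), (2, [1, 6]), (21, [1, 0, 2, 7, 6]), (13, [0, 1, 1, 0, 1, 0, 4, 2, 7]), (10, [1, 0, 1, 0, 1, 0, 4, 7, 6]), (6, [1, 1, 3, 2, 7]), (33, [1, 1, 0, 1, 0, 3, 2]), (9, [1, 0, 1, 0, 3, 2, 7]), (29, [0, 1, 1, 0, 1, 0, 3, 6]), (15, [7]), (32, [0, 1, 0, 3, 2, 6]), (17, [1, 1, 0, 1, 4, 6]), (18, [0, 1, 0, 4, 3]), (22, [1, 3, 6]), (1, [1, 1, 0, 1, 4, 3, 2, 7, 6]), (8, [1]), (19, [1, 0, 1, 4, 3, 2]), (25, [1, 0, 1, 4,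 3, 2]), (0, [1, 0, 2]), (23, [1, 3, 6]), (26, [0, 1, 4, 7]), (3, [0, 4, 3, 6]), (5, [2, 7]), (14, [1, 1, 1, 3, 2]), (31, [0, 1, 2]), (30, [1, 0, 1, 0, 4, 3, 2, 7]), (16, [1, 0, 1, 4, 3, 7]), (12, [0, 1, 0, 3, 2])]
def tb1_6 : List (ℕ × List ℕ) := [(35, [2]), (22, [1, 0, 3, 6]), (28, [1, 0, 1, 0, 4, 3]), (33, [0, 1, 0, 1, 0, 4, 2]), (16, [0, 1, 0, 1, 0, 2, 7, 6]), (4, [3, 2]), (20, [1, 0, 3, 2, 7]), (11, [0, 1, 1, 0, 1, 0, 4, 3, 2, 7]), (12, [1, 1, 0, 1, 0, 6]), (30, [0, 1, 0, 2]), (9, [1, 1, 2, 7, 6]), (17, [0, 1, 1, 0, 1, 0, 3, 6]), (6, [0, 1, 1, 0, 1, 0, 4, 3, 2, 7]), (7, [1, 1, 0, 1, 3, 7]), (13, [0, 1, 0, 4, 2]), (14, [1, 0, 4, 6]), (15, [2, 7]), (3, [1, 1, 0, 1, 4, 2, 6]), (10, [1, 1, 1, 3, 2]), (26, [0, 1, 0, 3, 2, 7]), (24, [0, 1, 1,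 0, 1, 0, 3, 2]), (5, [1, 1, 0, 1]), (31, [1, 1, 0, 1, 0, 3, 6]), (0, [0, 1, 0, 1, 0, 4, 3, 6]), (25, [0, 1, 0, 1, 0, 4, 3]), (19, [1, 0, 1, 0, 4, 3, 7, 6]), (23, [1, 0, 2]), (18, [1, 1, 0, 1, 0]), (32, [0, 1, 0, 1, 0, 3, 7, 6]), (1, [1, 1, 1, 3, 7]), (29, [1, 0, 4, 7, 6]), (8, [1, 0, 3, 2, 7, 6]), (21, [0, 1, 0, 1, 0, 4]), (27, [1, 1, 0, 1, 4, 3, 6]), (2, [0, 1, 1, 0, 1, 3, 2, 7])]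
def tb1_5 : List (ℕ × List ℕ) := [(35, [1]), (15, [1, 1, 1, 7, 6]), (17, [1, 0, 1, 1, 0, 1, 0, 4, 3, 7, 6]), (30, [1, 0, 1, 1, 0, 1]), (20, [0, 1, 0]), (6, [1, 0, 1, 2, 7, 6]), (5, [1, 1, 0, 1, 0, 2, 7, 6]), (31, [1, 0, 1, 1, 0, 1, 0, 4, 2, 6]), (22, [3]), (2, [1, 1, 0, 1, 4, 2]), (3, [0, 1, 0, 1, 0, 3, 7]), (14, [1, 4, 7]), (33, [0, 1, 0, 1, 0, 3]), (21, [1, 1, 1, 3, 2, 7, 6]), (9, [1, 1, 4, 3, 2, 7]), (13, [0, 1, 1, 0, 1, 0, 4, 6]), (25, [0, 2, 7]), (28, [1, 1, 1, 4, 3]), (27, [1, 1, 0, 1, 0, 4, 7, 6]), (16, [1, 1, 0, 1, 4, 3, 2]), (4, [1, 0, 3, 2]), (10, [1, 4, 2, 6]), (19, [3, 2, 7]), (23, [0, 1, 1, 0, 1, 4, 3, 6]), (7, [1, 0, 1, 2, 7, 6]), (11, [1, 0, 1, 3, 7, 6]), (8, [0, 1, 0, 4, 3, 2]), (29, [1, 0, 1, 1, 0, 1]), (18, [0, 1]), (1, [1,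 0, 1, 0, 1, 0, 4, 6]), (32, [1, 0, 1, 4, 2, 7]), (0, [1, 0, 1, 4, 3, 7]), (12, [0, 1, 0, 1, 0, 4, 7, 6]), (26, [0, 1, 0, 4, 2]), (24, [1, 0, 1, 1, 0, 1, 0, 4, 3, 7, 6])]
def tb1_4 : List (ℕ × List ℕ) := [(35, [0]), (11, [1, 0, 1, 0, 1, 0, 2]), (10, [0, 1, 0, 3, 7]), (22, [1, 1, 0, 1, 0, 2, 7]), (3, [1, 0, 1, 0, 1, 0, 4, 7, 6]), (21, [1, 1, 0, 1, 4, 7, 6]), (14, [1, 0, 1, 0, 4, 3, 2, 7]), (33, [0, 1, 1, 0, 1, 4, 3, 2, 7, 6]), (25, [1, 0, 1, 0, 1, 0, 4, 3, 2, 7]), (8, [0, 1, 1, 0, 1, 0, 4, 6]), (9, [1, 1, 0, 1, 4, 6]), (1, [0, 1, 1, 0, 1, 3, 6]), (0, [1, 0, 1, 1, 0, 1, 0, 4, 2]), (24, [1, 1, 0, 1, 3]), (18, [1, 0, 1, 0, 3, 2, 7, 6]), (5, [0, 1, 2]), (30, [0, 1, 1, 0, 1, 2, 6]), (29, [0, 1, 1, 0, 1, 0, 6]), (27, [1, 0, 3, 7]), (13, [0, 1, 1, 0,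 1, 0, 4, 3]), (23, [1, 1, 0, 1, 0, 4]), (20, [0, 1, 0, 4, 3]), (4, [0, 1, 0, 4, 3, 7]), (2, [1, 3, 7]), (19, [1, 0, 4, 2, 6]), (12, [1, 1, 0, 1, 0, 3, 2, 6]), (7, [1, 0, 1, 0, 1, 0, 4, 3, 2, 7]), (26, [0, 1, 1, 0, 1, 0, 4, 6]), (17, [1, 6]), (32, [0, 1, 1, 0, 1, 4, 7]), (16, [0, 1, 7]), (15, [0, 1, 0, 3]), (31, [7]), (28, [1, 1, 0, 1, 0, 4, 3, 2, 6]), (6, [1, 1, 0, 1, 0, 4, 3, 2])]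
def tb1_3 : List (ℕ × List ℕ) := [(1, []), (3, []), (5, []), (6, []), (7, []), (9, []), (11, []), (13, []), (0, [3]), (14, []), (10, [0, 1, 3, 2, 7]), (16, []), (18, []), (17, [0, 1, 1, 0, 1, 0, 4, 2, 7]), (20, []), (22, []), (2, [3, 2, 7]), (25, []), (12, [0, 1, 0, 1, 0, 3, 7]), (26, []), (24, [1, 0, 1, 1, 0, 1]), (27, []), (28, []), (8, [3, 7]), (23, [1, 1, 0, 1, 0, 4, 3, 2]), (29, []), (30, []), (35, []), (15, [3, 2, 7]), (21, [1, 4, 7]), (31, []), (4, [1, 1, 1, 2, 7]), (33, []), (19, [0, 1, 1, 0, 1, 4, 3]), (32, [0, 1, 1, 0, 1, 4, 2])]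
def tb1_2 : List (ℕ × List ℕ) := [(0, []), (2, []), (4, []), (35, []), (5, [0, 3]), (8, []), (10, []), (12, []), (11, [1, 6]), (1, []), (15, []), (3, [1, 0, 1, 0, 1, 0, 4, 2, 6]), (17, []), (19, []), (13, [1, 0, 1, 0, 3, 2, 7, 6]), (21, []), (23, []), (24, []), (7, [1, 0, 3, 7]), (14, [1, 0, 2, 7, 6]), (6, []), (16, [0, 1, 0, 1, 0, 4, 3]), (18, [1]), (27, [1, 0, 1, 4, 3, 2]), (9, []), (20, [1, 0, 2]), (25, [1, 0, 1, 0, 1, 0, 4, 3]), (22, [0, 1, 1, 0, 1, 0, 4, 6]), (26, [1, 0, 1, 0, 1, 0, 2]), (30, [2, 7]), (28, [1, 0, 1, 4, 3]), (29, [1, 1, 0, 1]), (32, []), (33, [1, 0, 1, 4, 3, 7]), (31, [0, 1, 0, 3, 2, 6])]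
def T0 : List (List ℕ) := [[0], [1], [0, 0], [1, 0], [0, 1], [1, 1], [0, 0, 0], [1, 0, 0], [0, 1, 0], [1, 1, 0], [0, 0, 1], [1, 0, 1], [0, 1, 1], [1, 1, 1], [0, 0, 0, 0], [1, 0, 0, 0], [0, 1, 0, 0], [1, 1, 0, 0], [0, 0, 1, 0], [0, 1, 1, 0], [1, 1, 1, 0], [0, 0, 0, 1], [1, 0, 0, 1], [0, 1, 0, 1], [1, 1, 0, 1], [0, 0, 1, 1], [1, 0, 1, 1], [0, 1, 1, 1], [1, 1, 1, 1], [0, 0, 0, 0, 0], [1, 0, 0, 0, 0], [1, 1, 0, 0, 0], [0, 0, 1, 0, 0], [1, 0, 1, 0, 0], [0, 1, 1, 0, 0], [1, 1, 1, 0, 0], [0, 0, 0, 1, 0], [0, 0, 1, 1, 0], [0, 1, 1, 1, 0], [0, 0, 0, 0, 1], [1, 0, 0, 0, 1], [1, 0, 1, 0, 1], [1, 1, 1, 0, 1], [0, 0, 0, 1, 1], [1, 0, 0, 1, 1], [1, 1, 0, 1, 1], [0, 0, 1, 1, 1], [0, 0, 0, 0, 0, 0], [1, 0, 0, 0, 0, 0], [0, 1, 0, 0, 0, 0], [1, 1, 1, 0, 0, 0],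 [1, 0, 0, 0, 1, 0], [0, 0, 1, 1, 1, 0], [1, 1, 0, 0, 0, 1], [1, 1, 0, 1, 0, 1], [1, 1, 1, 1, 0, 1], [0, 0, 0, 0, 1, 1], [0, 1, 0, 0, 1, 1], [0, 0, 0, 1, 1, 1], [1, 0, 0, 1, 1, 1], [1, 1, 0, 0, 0, 0, 0], [0, 1, 0, 0, 0, 1, 0], [0, 1, 1, 0, 0, 0, 1]]
def tb0_11 : List (ℕ × List ℕ) := [(64, [9]), (0, [5, 9]), (1, [1, 0, 0, 1, 3, 2, 3, 6, 4, 8]), (57, [0, 1, 0, 0, 3, 2, 3, 4, 9, 8]), (14, [1, 1, 1, 0, 0, 3, 6, 8]), (4, [1, 0, 3, 2, 3, 6, 5]), (54, [1, 1, 3, 2, 3, 2, 3, 2, 6, 5, 4, 9]), (42, [1, 0, 0, 1, 3, 3, 2, 3, 5]), (43, [1, 1, 1, 0, 1, 0, 1, 1, 2, 3, 2, 4, 9]), (52, [1, 0, 0, 3, 2, 3, 3, 2, 3, 8]), (9, [0, 3, 3, 2, 3, 6, 5, 4, 8]), (19, [0, 1, 0, 1, 2, 3, 3, 2, 3, 2, 6, 5, 4, 9, 8]), (33, [1, 0, 0, 1, 3, 3, 6, 5, 4]), (50, [0, 1, 0, 0, 1,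 3, 2, 3, 4, 8]), (40, [1, 0, 1, 0, 1, 1, 2, 3, 3, 2, 3, 2, 5]), (3, [1, 0, 0, 1, 2, 3, 2, 6, 5, 4, 8]), (17, [1, 1, 1, 0, 1, 0, 1, 1, 3, 4, 9, 8]), (16, [0, 2, 4, 9]), (15, [1, 1, 0, 0, 1, 3, 2, 5, 4]), (24, [1, 1, 3, 2, 3, 2, 9]), (10, [0, 0, 3, 2, 5, 4, 9]), (60, [1, 0, 0, 1, 3, 2, 3, 2, 6, 4, 9, 8]), (25, [1, 1, 0, 3, 2, 3, 6, 9, 8]), (36, [3, 2, 3, 3, 2, 3, 2, 6, 5]), (30, [1, 1, 1, 1, 0, 0, 2, 3, 2, 6, 5, 9]), (18, [1, 1, 1, 1, 1, 3, 2, 3, 2, 3, 2, 8]), (21, [0, 1, 0, 0, 3, 2, 6, 9]), (29, [1, 1, 0, 1, 1, 3, 3, 4, 8]), (27, [3, 2, 3, 3, 2, 3, 5, 4, 9]), (31, [5]), (26, [1, 1, 1, 0, 1, 1, 3, 2, 3, 2, 4, 9]), (23, [1, 1, 1, 1, 1, 3, 3, 2, 3, 2, 5, 4, 8]), (28, [5]), (48, [1, 0, 1, 0, 0, 1, 3, 3, 2, 3, 6, 5, 4]), (11, [1, 0, 1, 0, 0, 1, 2,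 5, 4, 9, 8]), (38, [1, 3, 3, 2, 3, 2, 5, 4]), (55, [1, 0, 1, 0, 1, 1, 2, 3, 2, 5, 4, 9]), (22, [3, 3, 6, 8]), (53, [1, 1, 1, 0, 1, 0, 1, 1, 2, 3, 3, 2, 3, 2, 6, 5, 4]), (34, [1, 0, 1, 3, 3, 8]), (62, [0, 1, 0, 0, 1, 3, 2, 3, 3, 2, 3, 4, 9]), (13, [1, 0, 1, 0, 0, 1, 3, 3, 3, 4, 9]), (45, [0, 1, 1, 0, 1, 0, 1, 1, 3, 2, 3, 3, 2, 3, 5, 4, 9, 8]), (6, [1, 1, 1, 1, 0, 0, 2, 3, 6, 5, 4, 9, 8]), (7, [0, 0, 1, 0, 0, 3, 2, 5]), (44, [1, 0, 0, 3, 2, 3, 3, 2, 3, 6, 9, 8]), (41, [1, 1, 1, 1, 3, 2, 3, 2, 3, 2, 6, 5, 4, 8]), (46, [2, 9, 8]), (47, [3, 2, 3, 8]), (32, [1, 1, 0, 0, 2, 3, 2, 3, 2, 4]), (49, [0, 1, 0, 1, 3, 2, 3, 3, 2, 3, 6, 5, 4, 8]), (12, [0, 1, 0, 0, 1, 3, 2, 3, 4, 8]), (51, [0, 0, 1, 0, 0, 3, 4, 9, 8]), (8, [1, 1, 0, 0, 1, 3, 5, 4, 9]), (37,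 [0, 1, 0, 0, 2, 3, 3, 2, 3, 6, 4, 8]), (5, [1, 1, 3, 2, 3, 2, 3, 2, 6, 5, 4, 9]), (35, [1, 1, 0, 0, 2, 6, 4, 8]), (56, [9]), (2, [1, 1, 1, 0, 1, 1, 3, 3, 6, 5, 8]), (58, [1, 0, 0, 1, 6, 4]), (59, [1, 1, 2, 3, 2, 3, 2, 4, 9, 8]), (20, [1, 1, 1, 1, 0, 0, 2, 3, 6, 4, 8]), (61, [0, 1, 1, 0, 1, 0, 1, 1, 3, 2, 3, 5, 4, 8]), (39, [1, 0, 0, 3, 2, 3, 2, 6, 5, 4])]
def tb0_10 : List (ℕ × List ℕ) := [(64, [8]), (59, [0, 1, 3, 2, 3, 6, 5, 4, 9]), (47, [0, 1, 1, 0, 1, 0, 1, 1, 2, 3, 6, 4, 9]), (29, [1, 2, 3, 5, 4, 9, 8]), (3, [0, 1, 0, 1, 1, 3, 3, 2, 3, 6, 9]), (4, [0, 0, 1, 0, 0, 2, 3, 2, 3, 2, 6, 5, 4]), (11, [1, 1, 3, 3, 6, 4, 9]), (6, [0, 0, 1, 0, 0, 3, 2, 3, 3, 2, 3, 2, 5, 4, 8]), (19, [0, 1, 0, 1, 3, 2, 3, 2, 5, 8]), (35, [0, 0, 3, 3, 3, 6, 5, 9]),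 (16, [1, 0, 2, 3, 6, 5]), (43, [1, 1, 1, 0, 1, 0, 1, 1, 3, 2, 3, 2, 3, 2, 8]), (5, [1, 1, 1, 1, 0, 0, 3, 2, 3, 2, 3, 2, 5, 8]), (13, [1, 0, 1, 0, 1, 1, 3, 3, 3, 4, 9, 8]), (12, [0, 1, 1, 1, 3, 3, 2, 3, 6]), (14, [0, 1, 3, 2, 3, 3, 2, 3, 5, 9, 8]), (17, [1, 1, 1, 0, 1, 0, 1, 1, 3, 3, 2, 3, 2, 6, 4, 8]), (9, [1, 1, 3, 2, 3, 3, 2, 3, 2, 6, 4, 9, 8]), (15, [1, 1, 0, 0, 1, 2, 3, 3, 2, 3, 4, 8]), (36, [1, 2, 3, 3, 2, 3, 6, 4, 9, 8]), (7, [1, 1, 0, 3, 2, 3, 3, 2, 3, 2, 4, 8]), (60, [0, 0, 1, 0, 1, 2, 6, 4, 8]), (25, [1, 0, 1, 1, 3, 2, 3, 2, 3, 2, 6, 9, 8]), (24, [3, 3, 5, 4, 9]), (41, [1, 1, 0, 1, 1, 3, 2, 3, 2, 6, 5]), (22, [2, 4]), (21, [1, 1, 0, 0, 3, 5, 9, 8]), (57, [0, 1, 1, 0, 1, 0, 1, 1, 3, 4, 9]), (27, [3, 2, 3, 3, 2, 3, 9, 8]), (28, [0, 1,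 0, 1, 3, 2, 3, 3, 2, 3, 6, 5, 8]), (2, [1, 1, 1, 1, 1, 3, 2, 3, 6, 5, 8]), (45, [1, 1, 3, 2, 3, 2, 3, 2, 5, 9]), (31, [0, 1, 0, 1, 3, 2, 3, 3, 2, 3, 6, 9, 8]), (62, [1, 1, 0, 3, 2, 5, 4, 9]), (54, [1, 0, 1, 1, 2, 3, 6, 8]), (38, [1, 3, 3, 2, 3, 2, 6, 5, 8]), (8, [1, 1, 1, 0, 1, 1, 2, 3, 2, 6, 5]), (18, [1, 1, 1, 1, 1, 3, 2, 3, 3, 2, 3, 2, 5, 4, 9]), (37, [1, 1, 0, 1, 0, 1, 1, 2, 3, 3, 2, 3, 2, 6, 4, 9]), (34, [1, 0, 1, 0, 0, 1, 2, 3, 4]), (48, [1, 1, 0, 3, 2, 3, 3, 2, 3, 2, 6, 5, 9, 8]), (50, [0, 1, 2, 6, 5]), (23, [0, 0, 1, 0, 0, 2, 6, 4, 9, 8]), (42, [6, 5, 4, 8]), (10, [1, 1, 0, 1, 0, 1, 1, 3, 3, 6, 5, 4]), (44, [1, 0, 0, 3, 2, 3, 2, 3, 2, 6, 5, 4]), (30, [1, 1, 1, 0, 0, 2, 3, 3, 2, 3, 6, 4]), (51, [0, 0, 3, 9]), (1, [0, 1, 1, 0, 1, 0, 1,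 1, 3, 2, 3, 3, 2, 3, 2, 5, 9]), (39, [0, 1, 0, 1, 2, 3, 3, 2, 3, 2, 9, 8]), (49, [6, 4]), (40, [1, 1, 0, 1, 0, 1, 1, 3, 2, 8]), (46, [0, 1, 0, 0, 1, 3, 3, 5, 8]), (55, [1, 1, 2, 3, 2, 3, 2, 4, 8]), (53, [1, 1, 0, 1, 1, 3, 3, 2, 3, 5, 4, 9]), (33, [0, 1, 1, 0, 1, 0, 1, 1, 3, 2, 3, 3, 2, 3, 6, 5, 8]), (52, [1, 0, 1, 0, 0, 1, 3, 3, 2, 3, 6, 5, 8]), (56, [8]), (26, [1, 4, 9, 8]), (58, [0, 0, 1, 0, 0, 3, 2, 3, 3, 2, 3, 6, 5, 4, 9]), (0, [1, 0, 0, 3, 3, 2, 3, 2, 6, 9, 8]), (20, [1, 1, 1, 2, 3, 3, 2, 3, 2, 4, 9, 8]), (61, [0, 0, 1, 3, 3, 2, 3, 9, 8]), (32, [1, 1, 0, 0, 1, 3, 2, 5, 4, 9, 8])]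
def tb0_9 : List (ℕ × List ℕ) := [(64, [5, 8]), (49, [1, 1, 0, 1, 0, 1, 1, 3, 6, 9, 8]), (47, [0, 1, 1, 0, 1, 0, 1, 1, 3, 2, 3, 3, 2, 3, 2, 5, 4]), (26, [0, 0, 1, 0, 0, 3, 2, 9, 8]), (34, [0, 1, 1, 1, 2, 5, 9]), (9, [1, 1, 1, 1, 0, 0, 3, 3, 6, 5, 4, 9]), (11, [1, 1, 3, 3, 2, 3, 5, 9]), (31, [1, 1, 1, 3, 2, 3, 3, 2, 3, 2, 6, 5, 4]), (12, [1, 1, 0, 2, 3, 2, 3, 2, 6, 5, 4, 9]), (35, [0, 0, 2, 3, 3, 2, 3, 6, 5, 4, 8]), (61, [1, 1, 1, 0, 1, 1, 3, 2, 5, 4]), (7, [0, 2, 3, 2, 3, 2, 5, 8]), (8, [0, 0, 1, 0, 0, 2, 3, 2, 5, 9]), (40, [1, 1, 1, 0, 1, 0, 1, 1, 2, 3, 3, 2, 3, 6, 9]), (19, [0, 1, 1, 0, 1, 0, 1, 1, 3, 2, 3, 2, 3, 2, 4, 8]), (38, [1, 0, 3, 2, 3, 4, 9, 8]), (60, [1, 3, 3, 2, 3, 6, 4]), (4, [1, 1, 0, 0, 1, 3, 2, 3, 2, 3, 2, 6, 5, 4, 9]), (20,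 [1, 3, 2, 3, 6, 4, 9]), (39, [1, 1, 0, 3, 2, 6, 5]), (43, [1, 1, 1, 0, 0, 2, 3, 2, 4]), (17, [1, 1, 1, 1, 0, 0, 3, 6, 9]), (53, [0, 1, 1, 3, 2, 3, 2, 6, 4]), (24, [0, 0, 1, 0, 0, 3, 2, 6, 5, 9, 8]), (57, [1, 0, 0, 1, 2, 4, 9, 8]), (62, [1, 0, 0, 3, 6, 9, 8]), (37, [1, 1, 1, 0, 1, 0, 1, 1, 2, 3, 3, 2, 3, 4, 9]), (41, [0, 1, 5, 9]), (27, [2, 5, 4, 9]), (42, [1, 1, 1, 0, 1, 1, 2, 3, 3, 2, 3, 2]), (45, [0, 1, 0, 0, 1, 3, 3, 2, 3, 2, 5, 9, 8]), (2, [0, 1, 1, 0, 1, 0, 1, 1, 3, 3, 2, 3, 6]), (6, [1, 1, 1, 0, 0, 3, 2, 6, 9]), (22, [1, 1, 3, 5, 8]), (52, [1, 1, 1, 0, 1, 0, 1, 1, 3, 2, 3, 3, 2, 3, 2, 6]), (14, [1, 0, 1, 0, 1, 1, 3, 2, 6, 5, 9]), (5, [0, 1, 2, 6, 9, 8]), (18, [0, 1, 0, 1, 3, 3, 2, 3, 2, 6, 9, 8]), (21, [1, 1, 1, 1, 3, 2, 5]), (3, [1,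 0, 1, 0, 0, 1, 2, 3, 3, 2, 3, 2, 6, 4, 9]), (48, [1, 0, 1, 3, 3, 5, 8]), (10, [1, 1, 0, 0, 3, 3, 3, 5, 9]), (30, [3, 2, 3, 3, 2, 3, 6, 4]), (28, [1, 1, 0, 1, 0, 1, 1, 2, 3, 2, 3, 2, 5, 4]), (50, [0, 1, 1, 1, 2, 3, 9, 8]), (0, [1, 1, 1, 0, 1, 1, 3, 2, 3, 3, 2, 3, 9]), (23, [1, 0, 1, 2, 3, 3, 2, 3, 4, 9]), (51, [0, 0, 1, 3, 3, 5, 9, 8]), (1, [0, 1, 1, 0, 1, 0, 1, 1, 2, 3, 2, 6, 4]), (36, [0, 0, 4, 9, 8]), (59, [0, 0, 3, 2, 3, 3, 2, 3, 2, 6, 4, 9]), (13, [1, 0, 1, 2, 3, 5, 4, 8]), (46, [0, 0, 1, 0, 1, 2, 6, 4, 9, 8]), (55, [0, 0, 3, 3, 3, 6, 5, 4]), (25, [1, 0, 1, 0, 1, 1, 3, 2, 3, 2, 6, 5]), (33, [0, 1, 0, 1, 3, 2, 3, 2, 3, 2, 5, 9]), (54, [1, 1, 1, 0, 0, 3, 2, 3, 3, 2, 3, 2, 6, 5, 9, 8]), (56, [5, 8]), (29, [1, 1, 0, 1, 0, 1, 1, 3, 2, 3, 3,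 2, 3, 2, 5, 4]), (58, [0, 0, 5, 4, 8]), (44, [1, 1, 3, 3, 3, 6, 5, 4, 9, 8]), (15, [1, 3, 2, 3, 2, 4, 9, 8]), (16, [0, 1, 0, 1, 2, 3, 5, 4, 9, 8]), (32, [1, 1, 2, 3, 6, 5, 9])]
def tb0_8 : List (ℕ × List ℕ) := [(64, [6]), (37, [1, 1, 0, 0, 1, 2, 3, 4, 9]), (51, [1, 0, 1, 1, 3, 2, 3, 5, 9, 8]), (41, [0, 3, 2, 3, 3, 2, 3]), (16, [1, 1, 0, 3, 2, 3, 5, 8]), (34, [1, 1, 0, 1, 0, 1, 1, 3, 3, 6, 5, 4, 9, 8]), (33, [1, 1, 1, 3, 2, 3, 2, 6, 4, 9, 8]), (28, [1, 0, 2, 3, 2, 5, 4, 9, 8]), (7, [0, 3, 2, 3, 6, 5, 9, 8]), (55, [1, 1, 1, 1, 1, 3, 3, 6, 5, 9]), (14, [1, 1, 1, 1, 3, 2, 3, 3, 2, 3, 5, 9, 8]), (10, [0, 0, 1, 3, 3, 2, 3, 9, 8]), (52, [0, 0, 2, 3, 3, 2, 3, 2, 4, 9]), (12, [1, 1, 0, 1, 1, 3, 2, 6, 5, 4]), (43, [3, 2, 3, 3, 2, 3, 2, 6, 5]), (9, [0,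 1, 1, 1, 2, 3, 5, 8]), (15, [3, 2, 3, 3, 2, 3, 9, 8]), (3, [0, 1, 0, 0, 3, 2, 4, 9, 8]), (17, [2, 3, 3, 2, 3, 2, 5, 9]), (22, [1, 1, 1, 1, 0, 0, 2, 3, 3, 2, 3, 5]), (50, [0, 1, 1, 2, 3, 2, 3, 2, 5, 9]), (20, [6, 4]), (49, [1, 0, 1, 3, 2, 3, 2, 3, 2, 6, 5, 8]), (18, [1, 1, 1, 1, 1, 3, 2, 3, 2, 5, 9]), (23, [1, 1, 1, 0, 1, 1, 3, 6, 9, 8]), (39, [1, 1, 0, 0, 2, 3, 3, 2, 3, 2, 5, 4, 8]), (44, [0, 0, 1, 2, 3, 2, 5, 4, 9]), (30, [6, 5]), (27, [6, 9, 8]), (6, [1, 1, 1, 1, 0, 0, 3, 2, 3, 2, 4, 9]), (29, [3, 2, 3, 3, 2, 3, 2, 6, 9, 8]), (26, [6, 4, 9]), (42, [0, 1, 5, 4]), (36, [0, 1, 3, 2, 3, 3, 2, 3, 2, 6, 9, 8]), (5, [0, 1, 0, 0, 1, 8]), (4, [1, 1, 0, 3, 2, 3, 3, 2, 3, 6, 4, 9]), (54, [1, 1, 0, 0, 1, 3, 6, 5]), (32, [0, 1, 0, 0, 1, 2, 3, 2, 6, 4,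 9, 8]), (0, [1, 1, 1, 3, 3, 3, 6, 4]), (61, [1, 1, 0, 1, 0, 1, 1, 2, 3, 5]), (24, [1, 1, 0, 0, 2, 6, 5, 9, 8]), (40, [0, 0, 3, 2, 3, 2, 3, 2, 5, 4, 8]), (2, [0, 0, 2, 3, 5]), (31, [0, 1, 0, 1, 5, 9]), (13, [3, 3, 6, 8]), (25, [1, 1, 1, 0, 1, 1, 2, 3, 2, 3, 2, 8]), (45, [3, 2, 3, 2, 3, 2]), (47, [1, 0, 6, 9, 8]), (46, [1, 1, 1, 1, 0, 0, 3, 3, 4, 9]), (62, [0, 1, 1, 1, 3, 3, 2, 3, 2, 5, 4, 8]), (21, [0, 1, 1, 1, 3, 2, 3, 6]), (19, [1, 1, 1, 0, 0, 2, 3, 2, 5, 4, 9, 8]), (1, [1, 1, 0, 0, 3, 3, 2, 3, 4]), (11, [0, 0, 1, 3, 2, 3, 3, 2, 3, 5, 9]), (59, [1, 1, 1, 0, 0, 3, 3, 2, 3, 6, 4]), (35, [0, 3, 3, 6, 8]), (8, [0, 1, 1, 1, 2, 3, 2, 4, 8]), (56, [6, 5, 4, 9]), (57, [3, 2, 3, 3, 2, 3, 2, 6, 9, 8]), (58, [0, 1, 0, 1, 1, 2, 3, 4, 9, 8]), (53, [1,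 1, 0, 0, 2, 6, 4]), (60, [0, 1, 0, 0, 1, 3, 2, 3, 2, 6, 4, 8]), (38, [0, 0, 1, 0, 0, 3, 2, 3, 2, 6, 9, 8]), (48, [1, 0, 1, 1, 2, 6, 5, 4, 9, 8])]
def tb0_7 : List (ℕ × List ℕ) := [(64, [5]), (44, [0, 1, 0, 0, 3, 2, 3, 9, 8]), (1, [1, 1, 1, 3, 6, 5, 9]), (45, [0, 1, 1, 1, 3, 2, 3, 2, 3, 2, 6, 4]), (34, [0, 3, 2, 3, 3, 2, 3, 2, 4, 9, 8]), (9, [1, 0, 1, 3, 2, 3, 3, 2, 3, 9, 8]), (8, [1, 0, 1, 0, 1, 1, 3, 6, 5, 9]), (31, [0, 3, 3, 5, 8]), (43, [1, 1, 0, 2, 3, 2, 6, 9]), (5, [1, 0, 1, 0, 1, 1, 2, 3, 2, 6, 5, 9]), (4, [0, 1, 1, 1, 2, 6, 9, 8]), (50, [1, 0, 1, 1, 3, 2, 3, 2, 3, 2, 9, 8]), (11, [1, 1, 1, 0, 1, 0, 1, 1, 3, 2, 3, 2, 4, 8]), (19, [0, 1, 2, 3, 3, 2, 3, 2, 6, 4, 9, 8]), (40, [1, 0, 1, 0, 1, 1, 3, 3, 3]), (38, [1, 1, 1, 1, 0, 0, 2, 3, 3,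 2, 3, 2, 8]), (20, [0, 1, 3, 2, 3, 3, 2, 3, 5, 4]), (61, [1, 1, 1, 1, 3, 2, 3, 6, 4, 8]), (60, [0, 1, 1, 1, 2, 3, 2, 9, 8]), (18, [1, 1, 2, 3, 2, 6]), (12, [1, 1, 1, 0, 1, 0, 1, 1, 5, 4]), (15, [0, 1, 3, 2, 3, 3, 2, 3, 6, 5, 8]), (37, [1, 0, 1, 0, 1, 1, 3, 2, 3, 3, 2, 3, 2]), (62, [1, 0, 0, 3, 3, 3, 6]), (30, [0, 0, 1, 0, 0, 3, 2, 3, 3, 2, 3, 6, 5, 4, 8]), (24, [0, 0, 1, 0, 0, 2, 3, 3, 2, 3, 2, 6, 4, 9]), (53, [0, 1, 3, 2, 5, 4, 9]), (29, [0, 0, 3, 9, 8]), (27, [3, 2, 3, 3, 2, 3, 2, 5, 4, 9]), (42, [1, 1, 0, 1, 0, 1, 1, 3, 3, 3, 6, 5, 4, 9]), (26, [1, 1, 1, 0, 1, 1, 3, 2, 3, 2, 3, 2, 6, 5, 8]), (23, [0, 0, 1, 0, 0, 3, 2, 3, 3, 2, 3, 2, 5, 4, 9]), (6, [1, 1, 1, 3, 3, 3, 6, 9]), (32, [1, 1, 0, 0, 4, 9]), (33, [1, 0, 1, 3, 2, 3, 2]), (3, [0, 3,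 2, 3, 3, 2, 3, 2, 4, 9, 8]), (35, [1, 0, 0, 3, 2, 5, 4, 9]), (39, [1, 1, 1, 0, 1, 1, 3, 2, 3, 2, 6, 9]), (21, [0, 1, 1, 3, 2, 3, 3, 2, 3, 5, 9, 8]), (14, [1, 0, 1, 1, 3, 3, 5, 4, 9, 8]), (36, [0, 3, 2, 6, 5, 9]), (13, [0, 1, 1, 0, 1, 0, 1, 1, 6, 5, 4, 9, 8]), (57, [1, 1, 1, 1, 3, 2, 3, 5]), (28, [1, 1, 0, 1, 0, 1, 1, 2, 3, 2, 3, 2, 6, 5, 4, 9, 8]), (7, [0, 0, 1, 0, 0, 3, 2, 5, 9]), (0, [0, 0, 1, 3, 2, 3, 3, 2, 3, 6, 5, 4, 8]), (2, [1, 0, 3, 2, 3, 2, 3, 2, 6]), (46, [1, 0, 0, 1, 3, 3, 6, 5, 4, 8]), (47, [3, 2, 3, 9, 8]), (48, [1, 0, 1, 0, 0, 1, 3, 2, 3, 3, 2, 3, 9, 8]), (59, [0, 0, 3, 2, 3, 3, 2, 3, 2, 5, 4]), (10, [1, 0, 1, 0, 1, 1, 3, 2, 3, 5, 4, 8]), (51, [1, 3, 2, 3, 3, 2, 3, 2, 6, 4, 9]), (54, [0, 1, 1, 3, 3, 2, 3, 2, 6, 5, 4, 9]), (25,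 [0, 0, 1, 0, 1, 3, 3, 3, 6, 4, 9]), (52, [1, 1, 2, 3, 3, 2, 3, 2, 6, 5]), (55, [1, 1, 0, 0, 2, 3, 2, 6, 4, 9]), (56, [5]), (41, [0, 1, 1, 3, 2, 3, 2, 3, 2, 6, 5, 9]), (58, [2, 3, 2, 6, 4]), (49, [1, 1, 1, 3, 2, 9, 8]), (17, [1, 1, 1, 1, 1, 3, 3, 2, 3, 2, 5, 4, 9]), (16, [1, 1, 1, 1, 2, 3, 3, 2, 3, 2, 5, 4, 9, 8]), (22, [1, 0, 0, 3, 3, 3, 6])]
def tb0_6 : List (ℕ × List ℕ) := [(64, [4]), (49, [0, 1, 0, 0, 1, 3, 2, 3, 2, 6, 5, 4, 9, 8]), (1, [1, 0, 0, 1, 3, 2, 5, 4, 9, 8]), (2, [0, 1, 1, 2, 5, 4]), (34, [1, 1, 1, 1, 1, 2, 3, 5, 9]), (16, [0, 1, 0, 1, 2, 3, 3, 2, 3, 6, 5, 4, 9, 8]), (54, [1, 1, 2, 3, 3, 2, 3, 6, 5, 4, 8]), (28, [0, 1, 1, 1, 3, 2, 3, 2, 6, 4, 9, 8]), (40, [0, 1, 1, 0, 1, 0, 1, 1, 3, 3, 2, 3, 2, 8]), (52, [1, 0, 0, 3, 2, 3, 3, 2,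 3, 2, 8]), (61, [1, 1, 1, 1, 1, 2, 3, 2, 3, 2, 6, 4, 8]), (10, [0, 0, 1, 3, 3, 2, 3, 6, 9, 8]), (55, [0, 1, 1, 1, 2, 3, 2, 3, 2, 5, 4, 9]), (12, [1, 0, 1, 0, 0, 1, 3, 6, 5, 4]), (43, [2, 6, 4, 8]), (38, [1, 0, 0, 3, 2, 3, 6, 5, 4, 8]), (60, [1, 3, 3, 6, 9]), (4, [1, 1, 0, 0, 1, 3, 3, 4, 8]), (20, [1, 3, 3, 2, 3, 2, 9, 8]), (32, [0, 1, 3, 3, 8]), (19, [1, 0, 0, 1, 3, 2, 5, 4, 9, 8]), (17, [1, 0, 1, 0, 0, 1, 2, 3, 6, 5, 9]), (37, [0, 0, 1, 0, 1, 2, 5, 4, 8]), (36, [0, 1, 0, 1, 1, 3, 5, 4]), (29, [0, 1, 0, 1, 3, 3, 6, 5, 8]), (48, [0, 1, 0, 1, 1, 2, 3, 4, 9]), (53, [0, 0, 1, 0, 0, 4, 9, 8]), (30, [4, 9]), (27, [2]), (6, [1, 1, 1, 0, 0, 3, 2, 4]), (23, [1, 1, 0, 1, 0, 1, 1, 2, 3, 3, 2, 3, 9, 8]), (26, [4, 9]), (42, [1, 1, 1, 0, 1, 1, 2, 3, 3, 2,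 3, 2, 6, 4, 9]), (18, [0, 1, 0, 0, 1, 2, 3, 2, 6, 5]), (35, [0, 1, 1, 9, 8]), (3, [1, 1, 1, 0, 0, 2, 3, 5, 4, 9]), (33, [0, 1, 1, 1, 3, 2, 3, 3, 2, 3, 2, 6, 5, 4, 9, 8]), (22, [0, 1, 0, 0, 6, 5, 9, 8]), (21, [0, 1, 0, 1, 1, 3, 3, 2, 3, 5]), (14, [0, 1, 0, 1, 2, 3, 2, 3, 2]), (62, [1, 0, 1, 0, 1, 1, 3, 3, 2, 3, 6, 4]), (7, [1, 0, 1, 3, 2, 3, 3, 2, 3, 2, 6, 4]), (41, [0, 1, 3, 2, 3, 3, 2, 3, 6, 4, 9]), (31, [0, 0, 1, 3, 2, 3, 6, 5, 4]), (13, [3, 2, 3, 2, 3, 2, 5]), (59, [1, 0, 1, 2, 3, 5, 4]), (45, [0, 1, 0, 1, 1, 2, 3, 3, 2, 3, 2, 6, 4, 8]), (46, [1, 1, 2, 3, 6, 9, 8]), (47, [3, 2, 3, 3, 2, 3, 9]), (24, [1, 1, 0, 0, 1, 3, 2, 3, 2, 5, 9, 8]), (0, [1, 1, 0, 1, 0, 1, 1, 3, 6, 9, 8]), (50, [1, 0, 1, 0, 0, 1, 3, 6, 5, 4]), (51, [1, 3, 2, 5, 4, 9]),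 (8, [0, 1, 0, 0, 2, 3, 3, 2, 3, 2, 5, 4, 8]), (25, [1, 1, 0, 1, 1, 3, 2, 3, 2, 6, 5, 9, 8]), (5, [1, 1, 0, 0, 2]), (11, [1, 0, 0, 1, 3, 3, 2, 3, 2, 6, 5, 4, 9]), (56, [4]), (57, [1, 1, 0, 1, 0, 1, 1, 2, 3, 3, 2, 3, 2, 6, 4, 8]), (58, [1, 0, 1, 1, 2, 3, 5, 9]), (44, [0, 1, 1, 0, 1, 0, 1, 1, 3, 2, 5, 4, 9]), (15, [1, 0, 0, 1, 2, 6, 5, 4]), (9, [1, 1, 1, 1, 0, 0, 3, 2, 3, 2, 4, 8]), (39, [0, 1, 1, 1, 3, 2, 3, 6, 9])]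
def tb0_5 : List (ℕ × List ℕ) := [(64, [3]), (51, [1, 1, 1, 1, 0, 0, 3, 3, 2, 3, 9, 8]), (25, [3, 2, 3, 3, 2, 3, 6, 4, 9]), (45, [0, 1, 0, 0, 1, 3, 2, 3, 2, 3, 2, 6, 4, 9]), (15, [0, 1, 3, 2, 3, 3, 2, 3, 2, 5, 4]), (56, [1, 1, 1, 1, 0, 0, 3, 2, 3, 5, 9]), (11, [1, 0, 1, 0, 1, 1, 3, 2, 3, 3, 2, 3, 2, 6, 5, 4, 9]), (9, [1, 1, 1, 0, 1, 1, 3, 3, 2, 3, 5, 4, 9, 8]), (7, [1, 1, 1, 0, 1, 0, 1, 1, 4]), (23, [0, 1, 1, 0, 1, 0, 1, 1, 3, 2, 3, 3, 2, 3, 2, 6, 5, 8]), (34, [1, 1, 1, 1, 3, 2, 3, 2, 6, 9]), (19, [0, 1, 2, 3, 5, 9, 8]), (52, [1, 1, 3, 3, 2, 3, 2, 4, 9]), (62, [1, 1, 1, 2, 3, 2, 6, 9, 8]), (18, [1, 0, 1, 0, 0, 1, 3, 2, 5, 4]), (17, [0, 1, 1, 0, 1, 0, 1, 1, 2, 3, 3, 2, 3, 2, 6, 4, 9, 8]), (31, [1, 1, 0, 3, 3, 2, 3, 8]), (38, [1, 0, 1, 0, 0,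 1, 2, 5, 4, 9]), (28, [0, 1, 3, 3, 3]), (22, [1, 1, 0, 3, 3, 2, 3, 5]), (12, [1, 1, 1, 1, 1, 3, 2, 3, 3, 2, 3, 2, 4, 8]), (4, [1, 1, 1, 1, 0, 0, 2, 3, 3, 2, 3, 5, 8]), (49, [1, 1, 1, 0, 1, 1, 2, 3, 3, 2, 3]), (24, [1, 0, 1, 0, 0, 1, 2, 3, 2, 5, 4, 9]), (35, [0, 1, 0, 0, 1, 2, 3, 2, 5, 8]), (39, [1, 1, 1, 1, 1, 2, 3, 3, 2, 3, 6]), (44, [1, 1, 0, 3, 2, 3, 5, 4]), (30, [0, 1, 1, 0, 1, 0, 1, 1, 6, 4, 9]), (3, [1, 1, 1, 1, 0, 0, 6]), (20, [0, 1, 1, 0, 1, 0, 1, 1, 2, 3, 3, 2, 3]), (29, [0, 1, 1, 1, 2, 9]), (33, [0, 0, 1, 0, 0, 3, 3, 2, 3, 6, 9, 8]), (60, [1, 1, 0, 1, 0, 1, 1, 3, 2, 3, 2, 5, 4, 9]), (10, [0, 2, 3, 2, 3, 2, 4, 9]), (5, [1, 1, 1, 1, 0, 0, 3, 2, 8]), (6, [0, 1, 1, 0, 1, 0, 1, 1, 2, 3, 3, 2, 3, 6, 4, 9, 8]), (57, [1, 1, 0, 1, 0, 1, 1,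 2, 3, 2, 3, 2, 6, 8]), (48, [1, 1, 1, 0, 1, 1, 2, 3, 3, 2, 3, 5, 4]), (0, [1, 1, 1, 3, 3, 4]), (42, [0, 1, 0, 0, 3, 2, 3, 2, 3, 2, 5, 4, 9]), (43, [1, 1, 1, 0, 1, 1, 3, 6, 4, 8]), (32, [1, 1, 1, 3, 3, 2, 3, 6, 4, 8]), (54, [1, 1, 0, 1, 1, 3, 3, 2, 3, 5, 9]), (16, [0, 0, 2, 3, 2, 3, 2, 8]), (13, [1, 1, 1, 1, 3, 2, 3, 6, 8]), (37, [0, 1, 1, 2, 3, 3, 2, 3, 5, 9]), (8, [1, 1, 1, 0, 1, 1, 3, 3, 2, 3, 4, 8]), (47, [3, 6, 5, 9]), (21, [0, 3, 3, 4, 9, 8]), (50, [1, 1, 0, 1, 0, 1, 1, 3, 6, 5, 9]), (53, [0, 0, 1, 0, 1, 3, 3, 5, 9, 8]), (36, [1, 0, 0, 1, 3, 2, 3, 2, 6, 4, 9, 8]), (1, [0, 2, 3, 3, 2, 3, 9]), (26, [1, 0, 1, 2, 6, 4, 9]), (59, [1, 0, 0, 3, 3, 2, 3, 6, 4]), (55, [1, 0, 0, 3, 2, 3, 3, 2, 3, 6, 5, 4, 8]), (41, [3, 2, 3, 3, 2, 3, 5, 9]), (14,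 [0, 1, 1, 0, 1, 0, 1, 1, 3, 2, 3, 2, 6, 5]), (2, [0, 0, 2, 3, 2, 3, 2, 6, 5, 4, 9]), (58, [1, 1, 2, 3, 3, 2, 3, 2, 4, 9]), (46, [1, 0, 1, 0, 0, 1, 2, 3, 3, 2, 3, 2, 6, 4, 9, 8]), (61, [1, 1, 0, 3, 3, 2, 3, 2, 6, 5, 4]), (27, [1, 0, 0, 1, 3, 2, 3, 2, 6, 4, 9, 8]), (40, [1, 0, 1, 1, 3, 3, 3, 6])]
def tb0_4 : List (ℕ × List ℕ) := [(64, [2]), (47, [1, 0, 3, 3, 6, 5, 8]), (59, [1, 1, 0, 1, 0, 1, 1, 2, 6, 9]), (11, [1, 0, 0, 3, 3, 2, 3, 4, 9, 8]), (6, [1, 1, 0, 1, 1, 3, 3, 2, 3, 5, 4, 8]), (34, [0, 1, 0, 0, 1, 3, 3, 6, 4, 8]), (33, [1, 1, 1, 1, 0, 0, 3, 2, 4]), (3, [1, 0, 0, 6, 9]), (10, [1, 1, 1, 1, 3, 2, 3, 3, 2, 3, 2, 5, 8]), (8, [0, 0, 1, 0, 1, 3, 3, 2, 3, 5, 4, 9]), (31, [0, 1, 0, 1, 3, 2, 3, 4, 8]), (7, [1, 1, 1, 1, 2, 3, 3, 2, 3, 2, 6, 4]),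 (2, [1, 1, 0, 1, 0, 1, 1, 6, 4, 9]), (12, [1, 1, 0, 1, 1, 2, 3, 2, 5]), (32, [1, 1, 0, 0, 1, 6, 4]), (42, [1, 0, 0, 1, 3, 2, 3, 2, 6, 4, 9]), (15, [0, 0, 1, 0, 1, 3, 2, 3, 3, 2, 3, 2, 6, 5]), (28, [1, 1, 0, 0, 6, 4, 9, 8]), (17, [2, 3, 3, 2, 3, 6, 4, 9, 8]), (22, [0, 1, 0, 1, 2, 3, 5, 9, 8]), (24, [1, 1, 1, 1, 1, 2, 3, 6, 8]), (56, [1, 2, 3, 2, 3, 2, 4, 9, 8]), (21, [0, 1, 1, 1, 2, 3, 2, 5, 4, 8]), (18, [1, 1, 0, 3, 2, 3, 3, 2, 3, 2, 9]), (23, [1, 3, 2, 3, 3, 2, 3, 2, 6, 4, 9]), (19, [1, 0, 1, 0, 1, 1, 2, 3, 8]), (25, [2, 9, 8]), (54, [1, 1, 1, 0, 0, 6, 5, 4]), (60, [0, 1, 1, 1, 3, 3, 6, 4, 9]), (16, [1, 1, 2, 3, 9]), (57, [1, 1, 0, 1, 0, 1, 1, 3, 2, 3, 3, 2, 3, 6, 5, 4, 9, 8]), (35, [1, 1, 3, 3, 2, 3, 2, 4]), (9, [0, 3, 3, 3]), (13, [1, 1,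 1, 0, 1, 1, 3, 2, 3, 2, 6, 4]), (5, [1, 1, 3, 2, 3, 3, 2, 3, 2, 6, 8]), (4, [1, 1, 0, 3, 2, 3, 3, 2, 3, 9]), (30, [0, 1, 1, 0, 1, 0, 1, 1, 3, 2, 3, 2, 6, 5]), (43, [0, 0, 1, 0, 0, 3, 3, 6, 4]), (46, [0, 1, 0, 0, 2, 3, 2, 3, 2, 6, 5, 9]), (61, [1, 0, 1, 3, 2, 9]), (50, [1, 1, 0, 2, 3, 2, 3, 2, 5]), (40, [1, 1, 1, 1, 1, 3, 3, 2, 3]), (52, [1, 1, 0, 1, 0, 1, 1, 2, 3, 5, 4, 8]), (14, [1, 1, 1, 1, 3, 3, 2, 3, 2, 6, 8]), (36, [1, 1, 1, 0, 1, 0, 1, 1, 3, 2, 6, 8]), (44, [0, 1, 0, 0, 1, 3, 2, 3, 2, 5]), (45, [3, 3, 2, 3, 6, 8]), (37, [1, 1, 0, 0, 1, 3, 3, 2, 3, 9, 8]), (0, [1, 1, 0, 0, 3, 2, 3, 2, 5, 9]), (48, [1, 1, 1, 0, 1, 1, 3, 6, 5, 4, 9]), (49, [1, 0, 1, 2, 9, 8]), (39, [1, 1, 0, 2, 3, 2, 3, 2, 5]), (53, [1, 3, 2, 3, 3, 2, 3, 2, 6, 5, 8]), (41,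 [1, 1, 0, 0, 1, 6, 8]), (51, [1, 0, 0, 1, 3, 2, 3, 6]), (26, [1, 0, 1, 1, 3, 5, 4, 8]), (55, [0, 0, 1, 3, 3, 2, 3, 6, 9, 8]), (20, [1, 3, 3, 4, 9, 8]), (29, [0, 0, 1, 0, 1, 3, 2, 6, 5, 4, 9]), (58, [1, 1, 0, 0, 2, 3, 6, 5, 9, 8]), (1, [0, 0, 1, 0, 0, 2, 3, 4, 8]), (27, [1, 0, 1, 0, 1, 1, 3, 3, 3, 6, 5, 4]), (38, [1, 0, 1, 1, 3, 3, 3, 6, 9, 8]), (62, [0, 0, 1, 0, 0, 3, 4, 9, 8])]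
def tb0_3 : List (ℕ × List ℕ) := [(64, [1]), (23, [1, 0, 0, 2, 3, 2, 5, 9, 8]), (37, [0, 1, 0, 0, 1, 3, 3, 2, 3, 6, 5]), (46, [1, 1, 0, 2, 3, 3, 2, 3, 2, 6, 9, 8]), (60, [0, 1, 1, 1, 2, 3, 2, 6, 8]), (16, [0, 1, 0, 1, 2, 6, 4, 9]), (26, [1, 1, 1, 1, 3, 2, 3, 6, 5, 4]), (61, [0, 2, 3, 3, 2, 3, 2, 6, 4, 8]), (38, [1, 0, 1, 0, 1, 1, 3, 3, 2, 3, 2, 6, 4, 9]), (57, [1, 1, 0, 0, 3, 2, 4, 8]), (15, [1, 1, 1, 1, 1, 3, 2, 3, 3, 2, 3, 6, 5, 8]), (9, [1, 0, 1, 0, 1, 1, 3, 3, 2, 3, 2, 6, 5]), (53, [1, 0, 1, 0, 0, 1, 3, 3, 3]), (32, [0, 0, 3, 4, 9, 8]), (7, [0, 1, 1, 3, 2, 3, 2, 6, 4, 8]), (19, [1, 1, 1, 1, 1, 3, 2, 3, 5, 9]), (10, [1, 1, 1, 0, 1, 1, 3, 2, 3, 3, 2, 3, 5, 9, 8]), (50, [0, 1, 1, 1, 2, 9]), (42, [0, 2, 3, 3, 2, 3, 2, 6, 5]), (28, [1, 1, 1,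 0, 0, 6, 5, 4, 9, 8]), (40, [0, 1, 0, 1, 2, 9, 8]), (43, [1, 1, 1, 1, 3, 2, 6, 4]), (59, [0, 1, 0, 1, 1, 3, 3, 2, 3, 2, 8]), (27, [1, 0, 0, 1, 3, 2, 3, 2, 6, 4, 8]), (0, [0, 3, 3, 3, 6, 5, 4]), (48, [1, 1, 1, 0, 0, 2, 6, 4]), (5, [1, 1, 1, 0, 0, 2, 3, 2, 9]), (2, [3, 4, 9, 8]), (31, [0, 1, 0, 1, 1, 2, 3, 3, 2, 3, 4, 9, 8]), (18, []), (11, [1, 1, 1, 1, 1, 2, 3, 2, 3, 2, 5]), (47, [0, 1, 1, 0, 1, 0, 1, 1, 3, 2, 3, 2, 6, 5, 4, 9, 8]), (14, [1, 0, 1, 0, 0, 1, 2, 3, 6, 5, 4]), (39, [1, 1, 0, 0, 3, 2, 3, 9]), (45, [1, 1, 0, 3, 2, 5]), (34, [1, 0, 0, 1, 3, 2, 3, 2, 3, 2, 6, 9]), (44, [0, 0, 1, 0, 0, 2, 3, 6, 4, 9]), (4, [1, 0, 1, 2, 3, 3, 2, 3, 6, 5, 4, 9]), (1, [1, 1, 1, 0, 0, 2, 3, 3, 2, 3, 8]), (24, [0, 1, 1, 0, 1, 0, 1, 1, 3, 2, 3, 2, 4, 8]),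 (3, [0, 3, 2, 3, 2, 4, 9, 8]), (22, [0, 1, 0, 1, 3, 4, 9, 8]), (41, [1, 1, 2, 3, 3, 2, 3, 2, 4, 8]), (36, [0, 0, 1, 3, 2, 3, 2, 5, 4, 9]), (20, [0, 1, 0, 1, 3, 6, 4, 9, 8]), (35, [0, 0, 3, 6, 5, 4]), (21, [1, 0, 1, 1, 2, 3, 5, 4]), (49, [0, 1, 0, 0, 1, 2, 3, 3, 2, 3, 2, 5, 4]), (55, [0, 0, 1, 0, 0, 6, 5]), (58, [1, 0, 0, 3, 3, 2, 3, 2, 6, 4, 9]), (25, [1, 1, 1, 0, 1, 1, 3, 2, 3, 6, 4, 9]), (17, [1, 1, 0, 0, 3, 2, 6, 5, 4, 8]), (52, [1, 0, 1, 0, 0, 1, 3, 2, 3, 2, 6, 4, 9, 8]), (33, [1, 1, 3, 2, 3, 3, 2, 3, 6, 8]), (29, [0, 0, 1, 3, 2, 3, 3, 2, 3, 6, 9, 8]), (54, [1, 1, 0, 0, 3, 3, 2, 3, 6]), (30, [0, 0, 1, 0, 0, 2, 3, 3, 2, 3, 2, 5, 8]), (12, [1, 1, 0, 3, 3, 2, 3, 2, 6]), (8, [1, 1, 0, 0, 1, 2, 5, 4]), (13, [1, 1, 1, 1, 1, 2, 3, 2, 4, 9]), (51,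 [0, 3, 2, 3, 3, 2, 3, 6, 4, 8]), (56, [0, 1, 0, 1, 3, 4, 9, 8]), (62, [1, 1, 0, 2, 3, 6, 5, 4, 8]), (6, [0, 1, 1, 0, 1, 0, 1, 1, 9])]
def tb0_2 : List (ℕ × List ℕ) := [(64, [0]), (33, []), (41, []), (35, [2, 3, 2, 6, 5, 9, 8]), (3, [0]), (14, [1, 0, 3, 2, 3, 2, 3, 2, 6, 4, 9]), (57, [1, 2, 3, 3, 2, 3, 2, 6]), (38, [2, 3, 3, 2, 3, 6, 4]), (32, [1, 1, 0, 1, 0, 1, 1, 2, 3, 3, 2, 3, 2, 6, 5, 4, 8]), (8, [0, 3, 2, 3, 5, 4, 9]), (22, [0, 0, 1, 0, 0, 3, 2, 3, 3, 2, 3, 2, 4]), (20, [0, 1, 3, 2, 3, 2, 8]), (55, [1, 0, 1, 1, 3, 3, 6]), (27, [0, 3, 3, 3, 6, 4, 9]), (56, [1, 1, 0, 1, 0, 1, 1, 3, 2, 3, 6, 4, 8]), (28, [0, 0, 1, 3, 2, 3, 6, 4]), (13, [1, 1, 0, 3, 3, 2, 3, 2, 6]), (40, [0, 1, 1, 0, 1, 0, 1, 1, 3, 2, 3, 2, 3, 2, 4, 9]), (36, [0, 1, 1, 1, 3,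 3, 3, 5, 4, 8]), (6, [1, 0, 1, 0, 1, 1, 3, 3, 6, 5, 9]), (19, [0, 1, 3, 3, 3, 6, 5, 4]), (24, [1, 0, 0, 2, 3, 2, 5, 9, 8]), (5, [0, 1, 1, 1, 3, 2, 3, 5, 9]), (48, [1, 0, 3, 2, 3, 2, 3, 2, 6, 4, 9]), (26, [1, 0, 0, 1, 3, 2, 3, 3, 2, 3, 2, 6, 5, 9, 8]), (10, [0, 0, 1, 0, 0, 3, 2, 6, 5, 8]), (23, [0, 1, 1, 6, 4, 8]), (25, [1, 0, 1, 3, 2, 5, 9, 8]), (34, [1, 1, 0, 2, 3, 6, 5, 4, 9]), (4, [1, 1, 0, 1, 0, 1, 1, 3, 2, 3, 2, 3, 2, 5, 4, 8]), (2, [0, 0, 1, 3, 2, 5, 4, 9]), (49, [1, 1, 0, 3, 3, 3]), (58, [0, 1, 1, 0, 1, 0, 1, 1, 3, 3, 2, 3, 6, 5, 8]), (62, [1, 1, 0, 4]), (53, [1, 0, 0, 3, 2, 3, 2, 3, 2, 6, 5, 4, 9, 8]), (12, [1, 1, 1, 0, 1, 0, 1, 1, 9]), (29, [0, 3, 2, 3, 2, 9, 8]), (42, [1, 0, 1, 3, 3, 2, 3, 2, 6]), (46, [0, 1, 0, 1, 1, 3, 2, 3, 3,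 2, 3, 5]), (18, [0, 1, 1, 0, 1, 0, 1, 1, 3, 5, 4, 9]), (16, [0, 3, 3, 4, 8]), (39, [0, 1, 6, 5, 4, 9, 8]), (52, [1, 6, 5, 4, 8]), (17, [0, 1, 0, 1, 2, 6, 4, 9]), (60, [1, 0, 3, 2, 3, 2, 3, 2, 4, 9, 8]), (59, [0, 3, 3, 3, 6, 4, 9]), (44, [0, 0, 1, 0, 1, 3, 2, 3, 3, 2, 3, 5]), (54, [1, 0, 1, 1, 2, 3, 2, 6, 4]), (11, []), (9, [0, 1, 0, 1, 3, 3, 5, 4, 9, 8]), (51, [1, 2, 3, 3, 2, 3, 2, 6, 5, 4, 8]), (43, [1, 1, 1, 1, 1, 2, 3, 3, 2, 3, 2, 6]), (30, [1, 0, 1, 0, 1, 1, 3, 3, 6, 5, 9]), (1, [0, 1, 1, 1, 2, 6, 9]), (0, [1, 1, 0, 1, 1, 2, 3, 6, 5, 9, 8]), (37, [1, 1, 3, 5, 9, 8]), (47, [0, 1, 1, 0, 1, 0, 1, 1, 3, 2, 3, 9, 8]), (15, [1, 0, 1, 0, 0, 1, 2, 3, 6, 5, 4]), (21, [0, 1, 1, 0, 1, 0, 1, 1, 2, 5, 8]), (61, [0, 1, 1, 0, 1, 0, 1, 1, 3, 2, 3, 3, 2,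 3, 2, 6, 5, 4, 9, 8]), (45, [1, 3, 6, 4, 9, 8]), (50, [1, 0, 1, 0, 1, 1, 2, 3, 3, 2, 3, 2, 9]), (31, [2, 6, 5, 9]), (7, [3, 6, 9])]
def tb0_1 : List (ℕ × List ℕ) := [(1, []), (3, []), (5, []), (7, []), (9, []), (11, []), (13, []), (15, []), (17, []), (64, [0]), (20, []), (22, []), (24, []), (26, []), (28, []), (30, []), (31, []), (33, []), (35, []), (19, [0, 0, 1, 0, 1, 3, 2, 3, 3, 2, 3, 2, 6, 5, 9, 8]), (4, [0, 0, 1, 0, 0, 3, 2, 3, 3, 2, 3, 2, 4]), (12, [0, 0, 1, 5]), (40, []), (16, [1, 1, 0, 0, 1, 2, 3, 3, 2, 3, 6, 4, 9, 8]), (41, []), (42, []), (44, []), (45, []), (29, [1]), (37, [0, 0, 1, 0, 0, 3, 2, 6, 9, 8]), (48, []), (32, [1, 1, 1, 0, 1, 0, 1, 1, 3, 3, 4]), (50, []), (10, [0, 1, 1, 0, 1, 0, 1, 1, 3, 2, 3, 2, 3, 2, 4, 9]), (14, [1, 1,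 0, 0, 2, 3, 2]), (46, [0, 0, 6, 5, 4, 8]), (34, [0, 1, 1, 1, 3, 2, 3, 8]), (51, []), (8, [0, 1, 1, 0, 1, 0, 1, 1, 6]), (39, [0, 0, 3, 2, 3, 2, 3, 2, 6, 9, 8]), (23, [0, 1, 1, 3, 2, 3, 3, 2, 3, 2, 6, 5, 4, 9, 8]), (53, []), (54, []), (55, []), (21, [2, 4, 9, 8]), (57, [1, 0, 3, 2, 3, 3, 2, 3, 2, 5, 9]), (0, [0, 0, 3, 4, 9, 8]), (59, []), (56, [1, 1, 0, 0, 1, 3, 2, 3, 3, 2, 3, 2, 6, 4]), (60, []), (38, [2, 3, 3, 2, 3, 6, 4]), (47, [1, 1, 1, 0, 1, 1, 3, 2, 3, 3, 2, 3, 5, 9, 8]), (43, [0, 1, 0, 1, 3, 2, 3, 3, 2, 3, 2, 6, 5, 4, 9, 8]), (49, [1, 1, 0, 3, 2, 3, 2, 3, 2, 8]), (58, [1, 1, 1, 1, 0, 0, 2, 6, 5, 4, 8]), (52, [0, 0, 1, 0, 1, 3, 2, 3, 3, 2, 3, 2, 4, 8]), (18, [0, 1, 0, 1, 1, 3, 2, 3, 6]), (61, [0, 1, 1, 0, 1, 0, 1, 1, 6, 4, 8]), (27, [0,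 3, 3, 3, 6, 4, 9]), (36, [0, 2, 3, 3, 2, 3, 6, 9]), (2, [1, 1, 0, 0, 3, 2, 3, 3, 2, 3, 2, 5, 4, 8]), (25, [1, 1, 1, 0, 1, 1, 2, 3, 3, 2, 3, 2, 6, 5]), (6, [1, 0, 1, 0, 1, 1, 3, 3, 6, 5, 9]), (62, [0, 1, 0, 1, 3, 3, 2, 3, 2, 5, 9])]
def tb0_0 : List (ℕ × List ℕ) := [(0, []), (2, []), (4, []), (6, []), (8, []), (10, []), (12, []), (14, []), (16, []), (18, []), (19, []), (21, []), (23, []), (25, []), (27, []), (29, []), (17, [2, 3, 2, 6, 5, 9, 8]), (32, []), (34, []), (36, []), (37, []), (38, []), (39, []), (33, [0, 1, 0, 1, 3, 2, 3, 2, 5, 4]), (1, [1, 0, 0, 1, 3, 2, 3, 3, 2, 3, 2, 6, 5, 9, 8]), (22, [0, 0, 1, 6, 4, 9, 8]), (43, []), (44, [0, 0, 1, 0, 0, 3, 2, 3, 6, 4]), (46, []), (3, [0, 1, 0, 0, 1, 3, 3, 2, 3, 6, 5]), (47, []), (49, []), (31,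 [1, 1, 0, 1, 1, 3, 3, 3, 6, 5, 4, 9]), (40, [1, 1, 0, 0, 1, 3, 2, 3, 2, 9]), (30, [1, 0, 3, 2, 3, 2, 3, 2, 6]), (26, [0, 0, 1, 0, 1, 2, 3, 2, 3, 2, 4, 9, 8]), (5, [1, 1, 0, 2, 3, 3, 2, 3, 2, 6, 9, 8]), (41, [1, 0, 1, 0, 0, 1, 2, 3, 9, 8]), (7, [1, 0, 0, 1, 3, 3, 4, 8]), (52, []), (11, [0, 1, 1, 1, 2, 3, 3, 2, 3, 9]), (9, [0, 1, 3, 2, 3, 2, 8]), (42, [1, 0, 1, 1, 3, 3, 6]), (28, [0, 0, 1, 0, 0, 2, 8]), (56, []), (57, []), (20, [0, 1, 3, 2, 3, 3, 2, 3, 5, 4, 9]), (58, []), (64, []), (13, [0, 0, 1, 3, 2, 3, 6, 4]), (55, [1, 1, 0, 1, 0, 1, 1, 3, 6, 5, 4, 9, 8]), (53, [1, 1, 0, 1, 0, 1, 1, 2, 3, 3, 2, 3, 2, 4]), (61, []), (50, [0, 1, 3, 2, 3, 3, 2, 3, 6, 5, 4, 8]), (62, []), (24, [0, 0, 1, 0, 0, 2, 3, 3, 2, 3, 2, 9, 8]), (54, [0, 0, 1, 0, 1, 3,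 2, 3, 6, 5, 9]), (59, [0, 1, 3, 2, 3, 9]), (60, [1, 0, 0, 2, 3, 2, 3, 2, 6]), (51, [0, 1, 0, 0, 1, 3, 2, 3, 4, 9, 8]), (35, [1, 0, 0, 2, 3, 6, 5, 9]), (15, [0, 1, 3, 2, 3, 3, 2, 3, 6, 5, 4, 8]), (48, [0, 1, 3, 2, 3, 3, 2, 3, 2, 6, 5, 8]), (45, [0, 0, 1, 3, 3, 2, 3, 6, 8])]
theorem c0 : Model.fixP R [5, 46, 29, 0] [[10], [11]] = true := by decide +kernel
theorem c1 : Model.growP R [[10], [11]] [0, 1] 13 4 = true := by decide +kernel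
theorem c2 : Model.fixP R [46, 29, 0] [[6], [7], [8], [9]] = true := by decide +kernel
theorem c3 : Model.growP R [[6], [7], [8], [9]] [0, 1, 2] 5 8 = true := by decide +kernel
theorem c4 : Model.fixP R [29, 0] [[4], [5]] = true := by decide +kernel
theorem c5 : Model.growP R [[4], [5]] [0, 1, 0, 1, 1, 0, 1] 46 18 = true := by decide +kernel
theorem c6 : Model.fixP R [0] [[2], [3]] = true := by decide +kernel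
theorem c7 : Model.growP R [[2], [3]] [0, 1, 0, 1, 0, 1, 0, 1, 0, 0] 29 35 = true := by decide +kernel
theorem c8 : Model.fixP R [] [[0], [1]] = true := by decide +kernel
theorem c9 : Model.growP R [[0], [1]] [0, 1, 0, 1, 0, 1, 0, 1, 0, 1, 0] 0 64 = true := by decide +kernel
theorem c10 : schB R (Model.cgens (ch.drop 5)) T4 [11] tb4_11 = true := by decide +kernel
theorem c11 : schB R (Model.cgens (ch.drop 5)) T4 [10] tb4_10 = true := by decide +kernel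
theorem c12 : schB R (Model.cgens (ch.drop 4)) T3 [11] tb3_11 = true := by decide +kernel
theorem c13 : schB R (Model.cgens (ch.drop 4)) T3 [10] tb3_10 = true := by decide +kernel
theorem c14 : schB R (Model.cgens (ch.drop 4)) T3 [9] tb3_9 = true := by decide +kernel
theorem c15 : schB R (Model.cgens (ch.drop 4)) T3 [8] tb3_8 = true := by decide +kernel
theorem c16 : schB R (Model.cgens (ch.drop 4)) T3 [7] tb3_7 = true := by decide +kernel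
theorem c17 : schB R (Model.cgens (ch.drop 4)) T3 [6] tb3_6 = true := by decide +kernel
theorem c18 : schB R (Model.cgens (ch.drop 3)) T2 [11] tb2_11 = true := by decide +kernel
theorem c19 : schB R (Model.cgens (ch.drop 3)) T2 [10] tb2_10 = true := by decide +kernel
theorem c20 : schB R (Model.cgens (ch.drop 3)) T2 [9] tb2_9 = true := by decide +kernel
theorem c21 : schB R (Model.cgens (ch.drop 3)) T2 [8] tb2_8 = true := by decide +kernel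
theorem c22 : schB R (Model.cgens (ch.drop 3)) T2 [7] tb2_7 = true := by decide +kernel
theorem c23 : schB R (Model.cgens (ch.drop 3)) T2 [6] tb2_6 = true := by decide +kernel
theorem c24 : schB R (Model.cgens (ch.drop 3)) T2 [5] tb2_5 = true := by decide +kernel
theorem c25 : schB R (Model.cgens (ch.drop 3)) T2 [4] tb2_4 = true := by decide +kernel
theorem c26 : schB R (Model.cgens (ch.drop 2)) T1 [11] tb1_11 = true := by decide +kernel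
theorem c27 : schB R (Model.cgens (ch.drop 2)) T1 [10] tb1_10 = true := by decide +kernel
theorem c28 : schB R (Model.cgens (ch.drop 2)) T1 [9] tb1_9 = true := by decide +kernel
theorem c29 : schB R (Model.cgens (ch.drop 2)) T1 [8] tb1_8 = true := by decide +kernel
theorem c30 : schB R (Model.cgens (ch.drop 2)) T1 [7] tb1_7 = true := by decide +kernel
theorem c31 : schB R (Model.cgens (ch.drop 2)) T1 [6] tb1_6 = true := by decide +kernel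
theorem c32 : schB R (Model.cgens (ch.drop 2)) T1 [5] tb1_5 = true := by decide +kernel
theorem c33 : schB R (Model.cgens (ch.drop 2)) T1 [4] tb1_4 = true := by decide +kernel
theorem c34 : schB R (Model.cgens (ch.drop 2)) T1 [3] tb1_3 = true := by decide +kernel
theorem c35 : schB R (Model.cgens (ch.drop 2)) T1 [2] tb1_2 = true := by decide +kernel
theorem c36 : schB R (Model.cgens (ch.drop 1)) T0 [11] tb0_11 = true := by decide +kernel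
theorem c37 : schB R (Model.cgens (ch.drop 1)) T0 [10] tb0_10 = true := by decide +kernel
theorem c38 : schB R (Model.cgens (ch.drop 1)) T0 [9] tb0_9 = true := by decide +kernel
theorem c39 : schB R (Model.cgens (ch.drop 1)) T0 [8] tb0_8 = true := by decide +kernel
theorem c40 : schB R (Model.cgens (ch.drop 1)) T0 [7] tb0_7 = true := by decide +kernel
theorem c41 : schB R (Model.cgens (ch.drop 1)) T0 [6] tb0_6 = true := by decide +kernel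
theorem c42 : schB R (Model.cgens (ch.drop 1)) T0 [5] tb0_5 = true := by decide +kernel
theorem c43 : schB R (Model.cgens (ch.drop 1)) T0 [4] tb0_4 = true := by decide +kernel
theorem c44 : schB R (Model.cgens (ch.drop 1)) T0 [3] tb0_3 = true := by decide +kernel
theorem c45 : schB R (Model.cgens (ch.drop 1)) T0 [2] tb0_2 = true := by decide +kernel
theorem c46 : schB R (Model.cgens (ch.drop 1)) T0 [1] tb0_1 = true := by decide +kernel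
theorem c47 : schB R (Model.cgens (ch.drop 1)) T0 [0] tb0_0 = true := by decide +kernel
end H0.MW2
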