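import Cfsg.Agent.H0.MW2.D
set_option maxRecDepth 100000
set_option Elab.async false
set_option linter.unusedSectionVars false
namespace H0.MW2
open H0 BN 
noncomputable abbrev G := gen R.p (lets 12)
instance fin : Finite G := gen_fin _ _
noncomputable def m : Model G := tm R 12 R_ge
theorem mR : m.R = R := rfl
theorem inj : Function.Injective m.φ := Subgroup.subtype_injective _
theorem top : gen m.g (lets 12) = ⊤ := tm_top _ _ _
theorem ch_ok : m.ChainOK ch [] := (m.chain_cons [0, 1, 0, 1, 0, 1, 0, 1, 0, 1, 0] (Model.via _ mR (fun R => Model.fixP R [] [[0], [1]]) c8) (Model.via _ mR (fun R => Model.growP R [[0], [1]] [0, 1, 0, 1, 0, 1, 0, 1, 0, 1, 0] 0 64) c9) (m.chain_cons [0, 1, 0, 1, 0, 1, 0, 1, 0, 0] (Model.via _ mR (fun R => Model.fixP R [0] [[2], [3]]) c6) (Model.via _ mR (fun R => Model.growP R [[2], [3]] [0, 1, 0, 1, 0, 1, 0, 1, 0, 0] 29 35) c7) (m.chain_cons [0, 1, 0, 1, 1, 0, 1] (Model.via _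 mR (fun R => Model.fixP R [29, 0] [[4], [5]]) c4) (Model.via _ mR (fun R => Model.growP R [[4], [5]] [0, 1, 0, 1, 1, 0, 1] 46 18) c5) (m.chain_cons [0, 1, 2] (Model.via _ mR (fun R => Model.fixP R [46, 29, 0] [[6], [7], [8], [9]]) c2) (Model.via _ mR (fun R => Model.growP R [[6], [7], [8], [9]] [0, 1, 2] 5 8) c3) (m.chain_cons [0, 1] (Model.via _ mR (fun R => Model.fixP R [5, 46, 29, 0] [[10], [11]]) c0) (Model.via _ mR (fun R => Model.growP R [[10], [11]] [0, 1] 13 4) c1) (m.chain_nil _))))))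
theorem up4 : Nat.card (gen m.g (Model.cgens (ch.drop 4))) ≤ 4 :=
  m.card_step' (ws := [[10], [11]]) (T := T4) (List.forall_mem_cons.2 ⟨m.sch_of inj tb4_10 (Model.via _ mR (fun R => schB R (Model.cgens (ch.drop 5)) T4 [10] tb4_10) c11), (List.forall_mem_cons.2 ⟨m.sch_of inj tb4_11 (Model.via _ mR (fun R => schB R (Model.cgens (ch.drop 5)) T4 [11] tb4_11) c10), (by simp)⟩)⟩) m.card_nil
theorem up3 : Nat.card (gen m.g (Model.cgens (ch.drop 3))) ≤ 32 :=
  m.card_step' (ws := [[6], [7], [8], [9], [10], [11]]) (T := T3) (List.forall_mem_cons.2 ⟨m.sch_of inj tb3_6 (Model.via _ mR (fun R => schB R (Model.cgens (ch.drop 4)) T3 [6] tb3_6) c17), (List.forall_mem_cons.2 ⟨m.sch_of inj tb3_7 (Model.via _ mR (fun R => schB R (Model.cgens (ch.drop 4)) T3 [7] tb3_7) c16), (List.forall_mem_cons.2 ⟨m.sch_of inj tb3_8 (Model.via _ mR (fun R => schB R (Model.cgens (ch.drop 4)) T3 [8] tb3_8) c15), (List.forall_mem_cons.2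 ⟨m.sch_of inj tb3_9 (Model.via _ mR (fun R => schB R (Model.cgens (ch.drop 4)) T3 [9] tb3_9) c14), (List.forall_mem_cons.2 ⟨m.sch_of inj tb3_10 (Model.via _ mR (fun R => schB R (Model.cgens (ch.drop 4)) T3 [10] tb3_10) c13), (List.forall_mem_cons.2 ⟨m.sch_of inj tb3_11 (Model.via _ mR (fun R => schB R (Model.cgens (ch.drop 4)) T3 [11] tb3_11) c12), (by simp)⟩)⟩)⟩)⟩)⟩)⟩) up4
theorem up2 : Nat.card (gen m.g (Model.cgens (ch.drop 2))) ≤ 576 :=
  m.card_step' (ws := [[4], [5], [6], [7], [8], [9], [10], [11]]) (T := T2) (List.forall_mem_cons.2 ⟨m.sch_of inj tb2_4 (Model.via _ mR (fun R => schB R (Model.cgens (ch.drop 3)) T2 [4] tb2_4) c25), (List.forall_mem_cons.2 ⟨m.sch_of inj tb2_5 (Model.via _ mR (fun R => schB R (Model.cgens (ch.drop 3)) T2 [5] tb2_5) c24), (List.forall_mem_cons.2 ⟨m.sch_of inj tb2_6 (Model.via _ mR (fun R => schB R (Model.cgens (ch.drop 3)) T2 [6] tb2_6) c23), (List.forall_mem_cons.2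 ⟨m.sch_of inj tb2_7 (Model.via _ mR (fun R => schB R (Model.cgens (ch.drop 3)) T2 [7] tb2_7) c22), (List.forall_mem_cons.2 ⟨m.sch_of inj tb2_8 (Model.via _ mR (fun R => schB R (Model.cgens (ch.drop 3)) T2 [8] tb2_8) c21), (List.forall_mem_cons.2 ⟨m.sch_of inj tb2_9 (Model.via _ mR (fun R => schB R (Model.cgens (ch.drop 3)) T2 [9] tb2_9) c20), (List.forall_mem_cons.2 ⟨m.sch_of inj tb2_10 (Model.via _ mR (fun R => schB R (Model.cgens (ch.drop 3)) T2 [10] tb2_10) c19), (List.forall_mem_cons.2 ⟨m.sch_of inj tb2_11 (Model.via _ mR (fun R => schB R (Model.cgens (ch.drop 3)) T2 [11] tb2_11) c18), (by simp)⟩)⟩)⟩)⟩)⟩)⟩)⟩)⟩) up3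
theorem up1 : Nat.card (gen m.g (Model.cgens (ch.drop 1))) ≤ 20160 :=
  m.card_step' (ws := [[2], [3], [4], [5], [6], [7], [8], [9], [10], [11]]) (T := T1) (List.forall_mem_cons.2 ⟨m.sch_of inj tb1_2 (Model.via _ mR (fun R => schB R (Model.cgens (ch.drop 2)) T1 [2] tb1_2) c35), (List.forall_mem_cons.2 ⟨m.sch_of inj tb1_3 (Model.via _ mR (fun R => schB R (Model.cgens (ch.drop 2)) T1 [3] tb1_3) c34), (List.forall_mem_cons.2 ⟨m.sch_of inj tb1_4 (Model.via _ mR (fun R => schB R (Model.cgens (ch.drop 2)) T1 [4] tb1_4) c33), (List.forall_mem_cons.2 ⟨m.sch_of inj tb1_5 (Model.via _ mR (fun R => schB R (Model.cgens (ch.drop 2)) T1 [5] tb1_5) c32), (List.forall_mem_cons.2 ⟨m.sch_of inj tb1_6 (Model.via _ mR (fun R => schB R (Model.cgens (ch.drop 2)) T1 [6] tb1_6) c31), (List.forall_mem_cons.2 ⟨m.sch_of inj tb1_7 (Model.via _ mR (fun R => schB R (Model.cgens (ch.drop 2)) T1 [7] tb1_7) c30), (List.forall_mem_cons.2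 ⟨m.sch_of inj tb1_8 (Model.via _ mR (fun R => schB R (Model.cgens (ch.drop 2)) T1 [8] tb1_8) c29), (List.forall_mem_cons.2 ⟨m.sch_of inj tb1_9 (Model.via _ mR (fun R => schB R (Model.cgens (ch.drop 2)) T1 [9] tb1_9) c28), (List.forall_mem_cons.2 ⟨m.sch_of inj tb1_10 (Model.via _ mR (fun R => schB R (Model.cgens (ch.drop 2)) T1 [10] tb1_10) c27), (List.forall_mem_cons.2 ⟨m.sch_of inj tb1_11 (Model.via _ mR (fun R => schB R (Model.cgens (ch.drop 2)) T1 [11] tb1_11) c26), (by simp)⟩)⟩)⟩)⟩)⟩)⟩)⟩)⟩)⟩)⟩) up2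
theorem up0 : Nat.card (gen m.g (Model.cgens (ch.drop 0))) ≤ 1290240 :=
  m.card_step' (ws := [[0], [1], [2], [3], [4], [5], [6], [7], [8], [9], [10], [11]]) (T := T0) (List.forall_mem_cons.2 ⟨m.sch_of inj tb0_0 (Model.via _ mR (fun R => schB R (Model.cgens (ch.drop 1)) T0 [0] tb0_0) c47), (List.forall_mem_cons.2 ⟨m.sch_of inj tb0_1 (Model.via _ mR (fun R => schB R (Model.cgens (ch.drop 1)) T0 [1] tb0_1) c46), (List.forall_mem_cons.2 ⟨m.sch_of inj tb0_2 (Model.via _ mR (fun R => schB R (Model.cgens (ch.drop 1)) T0 [2] tb0_2) c45), (List.forall_mem_cons.2 ⟨m.sch_of inj tb0_3 (Model.via _ mR (fun R => schB R (Model.cgens (ch.drop 1)) T0 [3] tb0_3) c44), (List.forall_mem_cons.2 ⟨m.sch_of inj tb0_4 (Model.via _ mR (fun R => schB R (Model.cgens (ch.drop 1)) T0 [4] tb0_4) c43), (List.forall_mem_cons.2 ⟨m.sch_of inj tb0_5 (Model.via _ mR (fun R => schB R (Model.cgens (ch.drop 1)) T0 [5] tb0_5) c42), (List.forall_mem_cons.2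 ⟨m.sch_of inj tb0_6 (Model.via _ mR (fun R => schB R (Model.cgens (ch.drop 1)) T0 [6] tb0_6) c41), (List.forall_mem_cons.2 ⟨m.sch_of inj tb0_7 (Model.via _ mR (fun R => schB R (Model.cgens (ch.drop 1)) T0 [7] tb0_7) c40), (List.forall_mem_cons.2 ⟨m.sch_of inj tb0_8 (Model.via _ mR (fun R => schB R (Model.cgens (ch.drop 1)) T0 [8] tb0_8) c39), (List.forall_mem_cons.2 ⟨m.sch_of inj tb0_9 (Model.via _ mR (fun R => schB R (Model.cgens (ch.drop 1)) T0 [9] tb0_9) c38), (List.forall_mem_cons.2 ⟨m.sch_of inj tb0_10 (Model.via _ mR (fun R => schB R (Model.cgens (ch.drop 1)) T0 [10] tb0_10) c37), (List.forall_mem_cons.2 ⟨m.sch_of inj tb0_11 (Model.via _ mR (fun R => schB R (Model.cgens (ch.drop 1)) T0 [11] tb0_11) c36), (by simp)⟩)⟩)⟩)⟩)⟩)⟩)⟩)⟩)⟩)⟩)⟩)⟩) up1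
theorem card : Nat.card G = 1290240 := m.card_chain ch_ok top up0 (by decide +kernel)
theorem base : m.pst [13, 5, 46, 29, 0] = ⊥ := m.chain_bot ch_ok card
end H0.MW2
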